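import Groth.Agent.L11.Zeta.Regular
import Mathlib.FieldTheory.PrimitiveElement
import Mathlib.FieldTheory.AlgebraicClosure
import Mathlib.FieldTheory.IsAlgClosed.AlgebraicClosure
import Mathlib.FieldTheory.Perfect
import Mathlib.RingTheory.TensorProduct.Maps
import Mathlib.LinearAlgebra.TensorProduct.Finiteness
import Mathlib.RingTheory.Spectrum.Prime.Basic

/-!
The points of `L ⊗ k̄` correspond to the embeddings of the constants of `L`.
-/

set_option autoImplicit false
universe u

open Polynomial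
open scoped TensorProduct

namespace Groth.L03.LangWeil

variable {k : Type u} [Field k] {L : Type u} [Field L] [Algebra k L]

local notation "E" => algebraicClosure k L
local notation "kb" => AlgebraicClosure k

theorem exists_emb_of_prime (P : PrimeSpectrum (L ⊗[k] kb)) :
    ∃ σ : E →ₐ[k] kb, ∀ a : E,
      (a : L) ⊗ₜ[k] (1 : kb) - (1 : L) ⊗ₜ[k] σ a ∈ P.asIdeal := by
  classical
  let Q := (L ⊗[k] kb) ⧸ P.asIdeal
  let iL : L →ₐ[k] Q := (Ideal.Quotient.mkₐ k P.asIdeal).comp Algebra.TensorProduct.includeLeft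
  let iA : kb →ₐ[k] Q := (Ideal.Quotient.mkₐ k P.asIdeal).comp Algebra.TensorProduct.includeRight
  have hiA : Function.Injective iA := iA.toRingHom.injective
  have hmem : ∀ a : E, iL (a : L) ∈ iA.range := fun a => by
    have hint : IsIntegral k (a : L) := (mem_algebraicClosure_iff.mp a.2).isIntegral
    set m := minpoly k (a : L)
    have h0 : Polynomial.aeval (iL (a : L)) m = 0 := by
      rw [Polynomial.aeval_algHom_apply, minpoly.aeval, map_zero]
    have hs := (IsAlgClosed.splits (m.map (algebraMap k kb)))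
    rw [Polynomial.aeval_def, ← iA.comp_algebraMap, ← Polynomial.eval₂_map, hs.eq_prod_roots,
      ((minpoly.monic hint).map _).leadingCoeff, map_one, one_mul, Polynomial.eval₂_multiset_prod,
      Multiset.prod_eq_zero_iff, Multiset.map_map, Multiset.mem_map] at h0
    obtain ⟨c, -, hc⟩ := h0
    exact ⟨c, by simp [sub_eq_zero] at hc; exact hc.symm⟩
  let σ : E →ₐ[k] kb := (AlgEquiv.ofInjective iA hiA).symm.toAlgHom.comp
    ((iL.comp (IntermediateField.val E)).codRestrict iA.range hmem)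
  refine ⟨σ, fun a => ?_⟩
  have h1 : iA (σ a) = iL (a : L) :=
    congrArg Subtype.val ((AlgEquiv.ofInjective iA hiA).apply_symm_apply ⟨iL (a : L), hmem a⟩)
  refine Ideal.Quotient.eq_zero_iff_mem.mp ?_
  rw [map_sub, sub_eq_zero]
  exact h1.symm

variable [PerfectField k]

theorem exists_poly_of_tensor (z : L ⊗[k] kb) : ∃ (β : kb) (p : L[X]),
    z = p.eval₂ (Algebra.TensorProduct.includeLeft : L →ₐ[k] L ⊗[k] kb).toRingHom
      ((1 : L) ⊗ₜ[k] β) := by
  classical
  obtain ⟨S, hS⟩ := TensorProduct.exists_finset (R := k) z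
  let F : IntermediateField k kb := IntermediateField.adjoin k ↑(S.image Prod.snd)
  haveI : FiniteDimensional k F :=
    IntermediateField.finiteDimensional_adjoin fun a _ => (Algebra.IsAlgebraic.isAlgebraic a).isIntegral
  obtain ⟨β, hβ⟩ := Field.exists_primitive_element k F
  have hβi : IsIntegral k β := IsIntegral.of_finite k β
  have hspan : ∀ c : F, ∃ q : k[X], Polynomial.aeval β q = c := fun c => by
    have hc : c ∈ Algebra.adjoin k ({β} : Set F) := by
      rw [← IntermediateField.adjoin_simple_toSubalgebra_of_isAlgebraic hβi.isAlgebraic, hβ]; trivial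
    rw [Algebra.adjoin_singleton_eq_range_aeval] at hc
    exact hc
  choose q hq using hspan
  refine ⟨β, ∑ w ∈ S.attach, Polynomial.C w.1.1 * (q ⟨w.1.2, IntermediateField.subset_adjoin k _
    (Finset.mem_image_of_mem Prod.snd w.2)⟩).map (algebraMap k L), ?_⟩
  rw [hS, Polynomial.eval₂_finsetSum, ← Finset.sum_attach S (fun w => w.1 ⊗ₜ[k] w.2)]
  refine Finset.sum_congr rfl fun w _ => ?_
  rw [Polynomial.eval₂_mul, Polynomial.eval₂_C, Polynomial.eval₂_map]
  rw [AlgHom.toRingHom_eq_coe, AlgHom.comp_algebraMap, ← Polynomial.aeval_def]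
  change _ = (w.1.1 ⊗ₜ[k] (1 : kb)) * Polynomial.aeval ((Algebra.TensorProduct.includeRight :
    kb →ₐ[k] L ⊗[k] kb) (β : kb)) _
  rw [Polynomial.aeval_algHom_apply, show Polynomial.aeval (β : kb) (q ⟨w.1.2, _⟩) =
    ((Polynomial.aeval β (q ⟨w.1.2, _⟩) : F) : kb) from Polynomial.aeval_algHom_apply F.val β _, hq]
  simp

theorem prime_eq_of_emb {P P' : PrimeSpectrum (L ⊗[k] kb)} {σ : E →ₐ[k] kb}
    (hP : ∀ a : E, (a : L) ⊗ₜ[k] (1 : kb) - (1 : L) ⊗ₜ[k] σ a ∈ P.asIdeal)
    (hP' : ∀ a : E, (a : L) ⊗ₜ[k] (1 : kb) - (1 : L) ⊗ₜ[k] σ a ∈ P'.asIdeal) : P = P' := by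
  classical
  have hclosed : ∀ z : L, IsIntegral E z → z ∈ Set.range (algebraMap E L) := fun z hz =>
    ⟨⟨z, mem_algebraicClosure_iff.mpr (isIntegral_trans (R := k) (A := E) z hz).isAlgebraic⟩, rfl⟩
  refine PrimeSpectrum.ext (Ideal.ext fun z => ?_)
  obtain ⟨β, p, rfl⟩ := exists_poly_of_tensor z
  letI : Algebra E kb := σ.toRingHom.toAlgebra
  haveI : IsScalarTower k E kb := IsScalarTower.of_algebraMap_eq fun c => (σ.commutes c).symm
  have hint : IsIntegral E β := (Algebra.IsIntegral.isIntegral (R := k) β).tower_top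
  set h := (minpoly E β).map (algebraMap E L)
  have hirr : Irreducible h :=
    Groth.L11.Zeta.irreducible_map_of_closed hclosed (minpoly.monic hint) (minpoly.irreducible hint)
  have key : ∀ R : PrimeSpectrum (L ⊗[k] kb),
      (∀ a : E, (a : L) ⊗ₜ[k] (1 : kb) - (1 : L) ⊗ₜ[k] σ a ∈ R.asIdeal) →
      ∀ p : L[X], p.eval₂ (Algebra.TensorProduct.includeLeft : L →ₐ[k] L ⊗[k] kb).toRingHom
        ((1 : L) ⊗ₜ[k] β) ∈ R.asIdeal ↔ h ∣ p := by
    intro R hR p
    let ev : L[X] →+* L ⊗[k] kb :=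
      Polynomial.eval₂RingHom (Algebra.TensorProduct.includeLeft : L →ₐ[k] L ⊗[k] kb).toRingHom ((1 : L) ⊗ₜ[k] β)
    change p ∈ R.asIdeal.comap ev ↔ _
    have hh : h ∈ R.asIdeal.comap ev := by
      rw [Ideal.mem_comap, ← Ideal.Quotient.eq_zero_iff_mem]
      simp only [h, ev, Polynomial.coe_eval₂RingHom, Polynomial.eval₂_map, Polynomial.hom_eval₂]
      have hcomp : (Ideal.Quotient.mk R.asIdeal).comp
          (((Algebra.TensorProduct.includeLeft : L →ₐ[k] L ⊗[k] kb).toRingHom).comp (algebraMap E L)) =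
          ((Ideal.Quotient.mk R.asIdeal).comp
            (Algebra.TensorProduct.includeRight : kb →ₐ[k] L ⊗[k] kb).toRingHom).comp (algebraMap E kb) :=
        RingHom.ext fun a => by
          simp only [RingHom.comp_apply]
          exact Ideal.Quotient.mk_eq_mk_iff_sub_mem _ _ |>.mpr (hR a)
      rw [← RingHom.comp_assoc, RingHom.comp_assoc, hcomp,
        show Ideal.Quotient.mk R.asIdeal ((1 : L) ⊗ₜ[k] β) = ((Ideal.Quotient.mk R.asIdeal).comp
          (Algebra.TensorProduct.includeRight : kb →ₐ[k] L ⊗[k] kb).toRingHom) β from rfl,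
        ← Polynomial.hom_eval₂, ← Polynomial.aeval_def, minpoly.aeval, map_zero]
    haveI := R.2
    haveI : (Ideal.span {h} : Ideal L[X]).IsMaximal := PrincipalIdealRing.isMaximal_of_irreducible hirr
    rw [← (inferInstance : (Ideal.span {h} : Ideal L[X]).IsMaximal).eq_of_le
      (Ideal.IsPrime.ne_top inferInstance) (Ideal.span_singleton_le_iff_mem _ |>.mpr hh), Ideal.mem_span_singleton]
  rw [key P hP, key P' hP']

theorem exists_prime_of_emb (σ : E →ₐ[k] kb) :
    ∃ P : PrimeSpectrum (L ⊗[k] kb), ∀ a : E, (a : L) ⊗ₜ[k] (1 : kb) - (1 : L) ⊗ₜ[k] σ a ∈ P.asIdeal := by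
  letI : Algebra E kb := σ.toRingHom.toAlgebra
  haveI : IsScalarTower k E kb := IsScalarTower.of_algebraMap_eq fun c => (σ.commutes c).symm
  haveI : Algebra.IsAlgebraic E kb := Algebra.IsAlgebraic.tower_top (K := k) E
  let τ : kb →ₐ[E] AlgebraicClosure L := IsAlgClosed.lift
  let ψ : L ⊗[k] kb →ₐ[k] AlgebraicClosure L :=
    Algebra.TensorProduct.productMap (IsScalarTower.toAlgHom k L (AlgebraicClosure L)) (τ.restrictScalars k)
  refine ⟨⟨RingHom.ker ψ.toRingHom, RingHom.ker_isPrime _⟩, fun a => RingHom.mem_ker.mpr ?_⟩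
  rw [map_sub, sub_eq_zero]
  change ψ ((a : L) ⊗ₜ[k] (1 : kb)) = ψ ((1 : L) ⊗ₜ[k] algebraMap E kb a)
  rw [Algebra.TensorProduct.productMap_apply_tmul, Algebra.TensorProduct.productMap_apply_tmul, map_one, map_one,
    mul_one, one_mul]
  exact (τ.commutes a).symm

/-- `L ⊗ k̄` has as many points as the constants of `L` have dimensions. -/
theorem card_primeSpectrum_tensor [FiniteDimensional k E] :
    Nat.card (PrimeSpectrum (L ⊗[k] kb)) = Module.finrank k E := by
  classical
  choose σ hσ using fun P : PrimeSpectrum (L ⊗[k] kb) => exists_emb_of_prime P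
  have hbij : Function.Bijective σ := by
    refine ⟨fun P P' h => prime_eq_of_emb (hσ P) (h ▸ hσ P'), fun s => ?_⟩
    obtain ⟨P, hP⟩ := exists_prime_of_emb s
    refine ⟨P, AlgHom.ext fun a => ?_⟩
    let iA : kb →+* (L ⊗[k] kb) ⧸ P.asIdeal :=
      (Ideal.Quotient.mk P.asIdeal).comp (Algebra.TensorProduct.includeRight : kb →ₐ[k] L ⊗[k] kb).toRingHom
    have h1 := Ideal.Quotient.mk_eq_mk_iff_sub_mem _ _ |>.mpr (hσ P a)
    have h2 := Ideal.Quotient.mk_eq_mk_iff_sub_mem _ _ |>.mpr (hP a)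
    exact iA.injective (h1.symm.trans h2)
  rw [Nat.card_eq_of_bijective σ hbij, Nat.card_eq_fintype_card, AlgHom.card]

end Groth.L03.LangWeil
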