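import Groth.Agent.L03.LangWeil.GeomComp
import Mathlib.AlgebraicGeometry.Pullbacks
import Mathlib.AlgebraicGeometry.Morphisms.Flat
import Mathlib.AlgebraicGeometry.Morphisms.UniversallyOpen
import Mathlib.AlgebraicGeometry.Morphisms.Integral
import Mathlib.RingTheory.IntegralClosure.GoingDown
import Mathlib.RingTheory.LocalRing.ResidueField.Fiber

/-!
The components of the base change to an algebraic closure over a point.
-/

set_option autoImplicit false
universe u

open AlgebraicGeometry CategoryTheory Limits
open scoped TensorProduct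

namespace Groth.L03.LangWeil

variable {k : Type u} [Field k]

/-- The points over a point are given by the residue field of the point. -/
theorem fibre_algClosure {X : Scheme.{u}} (f : X ⟶ Spec (CommRingCat.of k)) {U : X.Opens} (hU : IsAffineOpen U)
    {η : X} (hη : η ∈ U) [Algebra k Γ(X, U)]
    (halg : hU.fromSpec ≫ f = Spec.map (CommRingCat.ofHom (algebraMap k Γ(X, U)))) :
    (∀ a b : ↥(pullback f (Spec.map (CommRingCat.ofHom (algebraMap k (AlgebraicClosure k))))),
      (pullback.fst f (Spec.map (CommRingCat.ofHom (algebraMap k (AlgebraicClosure k))))).base a = η →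
      (pullback.fst f (Spec.map (CommRingCat.ofHom (algebraMap k (AlgebraicClosure k))))).base b = η →
      a ⤳ b → a = b) ∧
    Nat.card ↑((pullback.fst f (Spec.map (CommRingCat.ofHom (algebraMap k (AlgebraicClosure k))))).base ⁻¹' {η}) =
      Nat.card (PrimeSpectrum ((hU.primeIdealOf ⟨η, hη⟩).asIdeal.ResidueField ⊗[k] AlgebraicClosure k)) := by
  classical
  let g := Spec.map (CommRingCat.ofHom (algebraMap k (AlgebraicClosure k)))
  let π := pullback.fst f g
  let A := Γ(X, U)
  let T := A ⊗[k] AlgebraicClosure k
  set p : PrimeSpectrum A := hU.primeIdealOf ⟨η, hη⟩ with hpdef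
  have hp : hU.fromSpec p = η := hU.fromSpec_primeIdealOf ⟨η, hη⟩
  let j : Spec (CommRingCat.of T) ⟶ pullback f g :=
    ((pullbackSpecIso k A (AlgebraicClosure k)).inv ≫ (pullback.congrHom halg rfl).inv ≫
      (pullbackRightPullbackFstIso f g hU.fromSpec).inv) ≫ pullback.snd hU.fromSpec π
  haveI : IsOpenImmersion j := inferInstance
  have hj : j ≫ π = Spec.map (CommRingCat.ofHom (algebraMap A T)) ≫ hU.fromSpec := by
    simp only [j, π, Category.assoc, ← pullback.condition]
    rw [pullbackRightPullbackFstIso_inv_fst_assoc]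
    have e1 : (pullback.congrHom halg rfl).inv ≫ pullback.fst (hU.fromSpec ≫ f) g =
        pullback.fst (Spec.map (CommRingCat.ofHom (algebraMap k A))) g := by
      rw [pullback.congrHom_inv]
      exact (pullback.lift_fst _ _ _).trans (Category.comp_id _)
    rw [reassoc_of% e1]
    rw [pullbackSpecIso_inv_fst_assoc]
  have hrange : Set.range j.base = π.base ⁻¹' (U : Set X) := by
    rw [← hU.range_fromSpec]
    have h1 : Set.range j.base = Set.range (pullback.snd hU.fromSpec π).base := by
      refine Set.Subset.antisymm ?_ ?_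
      · rintro _ ⟨x, rfl⟩; exact ⟨_, rfl⟩
      · rintro _ ⟨x, rfl⟩
        let e := (pullbackSpecIso k A (AlgebraicClosure k)).inv ≫ (pullback.congrHom halg rfl).inv ≫
          (pullbackRightPullbackFstIso f g hU.fromSpec).inv
        obtain ⟨y, rfl⟩ := e.homeomorph.surjective x
        exact ⟨y, rfl⟩
    rw [h1, Scheme.Pullback.range_snd]
  have hbase : ∀ Q : PrimeSpectrum T, π.base (j.base Q) = hU.fromSpec (PrimeSpectrum.comap (algebraMap A T) Q) :=
    fun Q => congrArg (fun m => m.base Q) hj
  have hfib : ∀ Q : PrimeSpectrum T, π.base (j.base Q) = η ↔ PrimeSpectrum.comap (algebraMap A T) Q = p := by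
    intro Q
    rw [hbase, ← hp]
    exact hU.fromSpec.isOpenEmbedding.injective.eq_iff
  have hlift : ∀ a, π.base a = η → ∃ Q : PrimeSpectrum T, j.base Q = a := fun a ha =>
    hrange.ge (show π.base a ∈ (U : Set X) from ha ▸ hη)
  refine ⟨fun a b ha hb hab => ?_, ?_⟩
  · obtain ⟨Q, rfl⟩ := hlift a ha
    obtain ⟨Q', rfl⟩ := hlift b hb
    have hsp : Q ⤳ Q' := j.isOpenEmbedding.isInducing.specializes_iff.mp hab
    have hle : Q.asIdeal ≤ Q'.asIdeal := (PrimeSpectrum.le_iff_specializes Q Q').mpr hsp
    have h1 := (hfib Q).mp ha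
    have h2 := (hfib Q').mp hb
    rcases hle.eq_or_lt with h | h
    · rw [PrimeSpectrum.ext h]
    · haveI := Q.2
      have h3 := Ideal.IsIntegral.comap_lt_comap (R := A) h
      exact absurd (congrArg PrimeSpectrum.asIdeal (h1.trans h2.symm)) h3.ne
  · let e1 : {Q : PrimeSpectrum T // PrimeSpectrum.comap (algebraMap A T) Q = p} ≃ (π.base ⁻¹' {η} : Set _) :=
      Equiv.ofBijective (fun Q => ⟨j.base Q.1, (hfib Q.1).mpr Q.2⟩)
        ⟨fun Q Q' h => Subtype.ext (j.isOpenEmbedding.injective (congrArg Subtype.val h)), fun a => by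
          obtain ⟨Q, hQ⟩ := hlift a.1 a.2
          exact ⟨⟨Q, (hfib Q).mp (show π.base (j.base Q) = η by rw [hQ]; exact a.2)⟩, Subtype.ext hQ⟩⟩
    rw [← Nat.card_congr e1]
    let e2 := (PrimeSpectrum.preimageHomeomorphFiber A T p).toEquiv
    refine (Nat.card_congr e2).trans (Nat.card_congr (PrimeSpectrum.comapEquiv ?_).toEquiv)
    exact (Algebra.TensorProduct.cancelBaseChange k A p.asIdeal.ResidueField p.asIdeal.ResidueField
      (AlgebraicClosure k)).toRingEquiv

/-- The components over an irreducible closed subset are the points over its generic point. -/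
theorem card_components_preimage {X : Scheme.{u}} (f : X ⟶ Spec (CommRingCat.of k)) {η : X}
    (hinc : ∀ a b : ↥(pullback f (Spec.map (CommRingCat.ofHom (algebraMap k (AlgebraicClosure k))))),
      (pullback.fst f (Spec.map (CommRingCat.ofHom (algebraMap k (AlgebraicClosure k))))).base a = η →
      (pullback.fst f (Spec.map (CommRingCat.ofHom (algebraMap k (AlgebraicClosure k))))).base b = η →
      a ⤳ b → a = b) :
    Nat.card (irreducibleComponents
      ↥((pullback.fst f (Spec.map (CommRingCat.ofHom (algebraMap k (AlgebraicClosure k))))).base ⁻¹' closure {η})) =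
      Nat.card ↑((pullback.fst f (Spec.map (CommRingCat.ofHom (algebraMap k (AlgebraicClosure k))))).base ⁻¹' {η}) := by
  classical
  let π := pullback.fst f (Spec.map (CommRingCat.ofHom (algebraMap k (AlgebraicClosure k))))
  let Y := π.base ⁻¹' closure {η}
  have hY : IsClosed Y := isClosed_closure.preimage π.continuous
  haveI : QuasiSober Y := (hY.isClosedEmbedding_subtypeVal).quasiSober
  haveI : Flat (Spec.map (CommRingCat.ofHom (algebraMap k (AlgebraicClosure k)))) := by
    rw [HasRingHomProperty.Spec_iff (P := @Flat)]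
    exact (RingHom.flat_algebraMap_iff).mpr inferInstance
  haveI : Flat π := inferInstanceAs (Flat (pullback.fst f (Spec.map (CommRingCat.ofHom (algebraMap k (AlgebraicClosure k))))))
  have hgen : GeneralizingMap π.base := Flat.generalizingMap π
  have hmax : ∀ y : Y, π.base y.1 = η → closure ({y} : Set Y) ∈ irreducibleComponents Y := fun y hy => by
    refine ⟨isIrreducible_singleton.closure, fun C hC hle => ?_⟩
    have hC' : IsIrreducible (closure C) := hC.closure
    obtain ⟨c, hc⟩ := QuasiSober.sober hC' isClosed_closure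
    have hcy : c ⤳ y := hc.specializes (subset_closure (hle (subset_closure rfl)))
    have hcy' : (c : ↥(pullback f _)) ⤳ y.1 := hcy.map continuous_subtype_val
    have h1 : π.base c.1 ⤳ η := hy ▸ hcy'.map π.continuous
    have h2 : η ⤳ π.base c.1 := specializes_iff_mem_closure.mpr c.2
    have hcη : π.base c.1 = η := (h2.antisymm h1).eq.symm
    have : c = y := Subtype.ext (hinc _ _ hcη hy hcy')
    rw [← this, hc.def]
    exact subset_closure
  symm
  let Φ : ↑(π.base ⁻¹' {η}) → irreducibleComponents Y := fun a =>
    ⟨closure {(⟨a.1, show π.base a.1 ∈ closure {η} by rw [show π.base a.1 = η from a.2]; exact subset_closure rfl⟩ : Y)},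
      hmax _ a.2⟩
  refine Nat.card_eq_of_bijective Φ ⟨fun a b h => Subtype.ext ?_, fun C => ?_⟩
  · have h' : closure _ = closure _ := congrArg Subtype.val h
    have hab := (inseparable_iff_closure_eq.mpr h').eq
    exact congrArg (fun y : Y => y.1) hab
  · obtain ⟨C, hC⟩ := C
    have hCc : IsClosed C := isClosed_of_mem_irreducibleComponents C hC
    obtain ⟨c, hc⟩ := QuasiSober.sober hC.1 hCc
    obtain ⟨c', hc', hη'⟩ := hgen (specializes_iff_mem_closure.mpr c.2 : η ⤳ π.base c.1)
    let c'' : Y := ⟨c', show π.base c' ∈ closure {η} by rw [hη']; exact subset_closure rfl⟩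
    refine ⟨⟨c', hη'⟩, Subtype.ext ?_⟩
    change closure {c''} = C
    have hsp : c'' ⤳ c := Topology.IsEmbedding.subtypeVal.isInducing.specializes_iff.mp hc'
    have hle : C ≤ closure {c''} := by
      intro z hz
      exact specializes_iff_mem_closure.mp (hsp.trans (hc.specializes hz))
    exact le_antisymm (hC.2 isIrreducible_singleton.closure hle) hle

end Groth.L03.LangWeil
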