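import Groth.Agent.L03.LangWeil.Domain
import Groth.Agent.L03.LangWeil.GeomTop
import Groth.Agent.L11.Zeta.Counts
import Groth.Agent.L22.SchemeDim
import Mathlib.Topology.NoetherianSpace
import Mathlib.AlgebraicGeometry.Noetherian

/-!
Points of a scheme of finite type over a finite field in an affine piece or a small closed subset.
-/

set_option autoImplicit false
universe u

open AlgebraicGeometry CategoryTheory Limits
open scoped TensorProduct

namespace Groth.L03.LangWeil

variable {k : Type u} [Field k] {X : Scheme.{u}} (f : X ⟶ Spec (CommRingCat.of k))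

/-- The `k`-algebra structure on the sections over an affine open. -/
@[reducible] noncomputable def sectAlg {U : X.Opens} (hU : IsAffineOpen U) : Algebra k Γ(X, U) :=
  (Spec.preimage (hU.fromSpec ≫ f)).hom.toAlgebra

theorem sectAlg_spec {U : X.Opens} (hU : IsAffineOpen U) :
    letI := sectAlg f hU
    hU.fromSpec ≫ f = Spec.map (CommRingCat.ofHom (algebraMap k Γ(X, U))) :=
  (Spec.map_preimage _).symm

theorem sectAlg_finiteType [LocallyOfFiniteType f] {U : X.Opens} (hU : IsAffineOpen U) :
    letI := sectAlg f hU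
    Algebra.FiniteType k Γ(X, U) := by
  letI := sectAlg f hU
  have h : LocallyOfFiniteType (Spec.map (Spec.preimage (hU.fromSpec ≫ f))) := by
    rw [Spec.map_preimage]; infer_instance
  rw [HasRingHomProperty.Spec_iff (P := @LocallyOfFiniteType)] at h
  exact h

/-- The `k'`-points of `X`. -/
def Points (k' : Type u) [Field k'] [Algebra k k'] : Type u :=
  {g : Spec (CommRingCat.of k') ⟶ X // g ≫ f = Spec.map (CommRingCat.ofHom (algebraMap k k'))}

/-- The image of the point. -/
noncomputable def Points.pt {f : X ⟶ Spec (CommRingCat.of k)} {k' : Type u} [Field k'] [Algebra k k']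
    (g : Points f k') : X := g.1.base (IsLocalRing.closedPoint k')

/-- The points in an affine open are the homomorphisms of the sections. -/
noncomputable def pointsAffineEquiv {U : X.Opens} (hU : IsAffineOpen U) (k' : Type u) [Field k'] [Algebra k k'] :
    letI := sectAlg f hU
    Over (algebraMap k k') Γ(X, U) ≃ {g : Points f k' // g.pt ∈ U} :=
  letI := sectAlg f hU
  haveI : Subsingleton ↥(Spec (CommRingCat.of k')) := inferInstanceAs (Subsingleton (PrimeSpectrum k'))
  Equiv.ofBijective
    (fun ψ => ⟨⟨Spec.map (CommRingCat.ofHom ψ.1) ≫ hU.fromSpec, by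
        rw [Category.assoc, sectAlg_spec f hU, ← Spec.map_comp, ← CommRingCat.ofHom_comp, ψ.2]⟩, by
      change (Spec.map (CommRingCat.ofHom ψ.1) ≫ hU.fromSpec).base _ ∈ U
      exact hU.range_fromSpec.le ⟨(Spec.map (CommRingCat.ofHom ψ.1)).base (IsLocalRing.closedPoint k'), rfl⟩⟩)
    ⟨fun ψ ψ' h => by
      have h1 := congrArg (fun g => g.1.1) h
      dsimp only at h1
      rw [cancel_mono] at h1
      exact Subtype.ext (congrArg CommRingCat.Hom.hom (Spec.map_injective h1)), fun g => by
      have hsub : Set.range g.1.1 ⊆ Set.range hU.fromSpec := by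
        rw [hU.range_fromSpec]
        rintro _ ⟨y, rfl⟩
        rw [Subsingleton.elim y (IsLocalRing.closedPoint k')]
        exact g.2
      set χ := Spec.preimage (IsOpenImmersion.lift hU.fromSpec g.1.1 hsub)
      have hχ : Spec.map χ ≫ hU.fromSpec = g.1.1 := by rw [Spec.map_preimage, IsOpenImmersion.lift_fac]
      have h2 : Spec.map (CommRingCat.ofHom (algebraMap k Γ(X, U)) ≫ χ) =
          Spec.map (CommRingCat.ofHom (algebraMap k k')) := by
        rw [Spec.map_comp, ← sectAlg_spec f hU, ← Category.assoc, hχ, g.1.2]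
      exact ⟨⟨χ.hom, congrArg CommRingCat.Hom.hom (Spec.map_injective h2)⟩, Subtype.ext (Subtype.ext hχ)⟩⟩

theorem pointsAffineEquiv_pt {U : X.Opens} (hU : IsAffineOpen U) (k' : Type u) [Field k'] [Algebra k k'] :
    letI := sectAlg f hU
    ∀ ψ : Over (algebraMap k k') Γ(X, U), (pointsAffineEquiv f hU k' ψ).1.pt =
      hU.fromSpec (PrimeSpectrum.comap ψ.1 (IsLocalRing.closedPoint k')) := by
  intro ψ
  rfl

theorem finite_points_affine [Finite k] [LocallyOfFiniteType f] {U : X.Opens} (hU : IsAffineOpen U) (k' : Type u)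
    [Field k'] [Algebra k k'] [Finite k'] : Finite {g : Points f k' // g.pt ∈ U} := by
  letI := sectAlg f hU
  haveI := sectAlg_finiteType f hU
  haveI := finite_over (algebraMap k k') Γ(X, U)
  exact Finite.of_equiv _ (pointsAffineEquiv f hU k')

theorem exists_affine_cover [QuasiCompact f] :
    ∃ s : Finset X.affineOpens, ∀ x : X, ∃ U ∈ s, x ∈ (U : X.Opens) := by
  haveI : CompactSpace X := QuasiCompact.compactSpace_of_compactSpace f
  obtain ⟨s, hs⟩ := isCompact_univ.elim_finite_subcover (fun U : X.affineOpens => ((U : X.Opens) : Set X))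
    (fun U => U.1.2) (fun x _ => by
      obtain ⟨_, ⟨U, hU, rfl⟩, hxU, -⟩ :=
        X.isBasis_affineOpens.exists_subset_of_mem_open (Set.mem_univ x) isOpen_univ
      exact Set.mem_iUnion.mpr ⟨⟨U, hU⟩, hxU⟩)
  exact ⟨s, fun x => by simpa using hs (Set.mem_univ x)⟩

variable [Finite k] [LocallyOfFiniteType f] [QuasiCompact f]

theorem finite_points (k' : Type u) [Field k'] [Algebra k k'] [Finite k'] : Finite (Points f k') := by
  obtain ⟨s, hs⟩ := exists_affine_cover f
  haveI := fun U : s => finite_points_affine f U.1.2 k'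
  refine Finite.of_surjective (fun z : Σ U : s, {g : Points f k' // g.pt ∈ (U.1 : X.Opens)} => z.2.1) fun g => ?_
  obtain ⟨U, hU, hg⟩ := hs g.pt
  exact ⟨⟨⟨U, hU⟩, g, hg⟩, rfl⟩

/-- A closed subset of small dimension has few points. -/
theorem exists_card_closed_le {W : Set X} (hW : IsClosed W) {r : ℕ} (hdim : topologicalKrullDim W < r) :
    ∃ C : ℕ, ∀ (k' : Type u) [Field k'] [Algebra k k'] [Finite k'],
      Nat.card {g : Points f k' // g.pt ∈ W} * Nat.card k' ≤ C * Nat.card k' ^ r := by
  classical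
  obtain ⟨s, hs⟩ := exists_affine_cover f
  have hV : ∀ V : s, ∃ C : ℕ, ∀ (k' : Type u) [Field k'] [Algebra k k'] [Finite k'],
      Nat.card {g : {g : Points f k' // g.pt ∈ (V.1 : X.Opens)} // g.1.pt ∈ W} * Nat.card k' ≤ C * Nat.card k' ^ r := by
    intro V
    have hVa : IsAffineOpen (V.1 : X.Opens) := V.1.2
    letI := sectAlg f hVa
    haveI := sectAlg_finiteType f hVa
    let Z : Set (PrimeSpectrum Γ(X, V.1)) := hVa.fromSpec ⁻¹' W
    let I := PrimeSpectrum.vanishingIdeal Z
    have hZ : IsClosed Z := hW.preimage hVa.fromSpec.continuous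
    have hI : PrimeSpectrum.zeroLocus (I : Set Γ(X, V.1)) = Z := by
      rw [PrimeSpectrum.zeroLocus_vanishingIdeal_eq_closure, hZ.closure_eq]
    let B := Γ(X, V.1) ⧸ I
    have hdimB : ringKrullDim (genFibre k B) < r := by
      have e : B ≃+* genFibre k B := (IsLocalization.atUnits B (Algebra.algebraMapSubmonoid B (nonZeroDivisors k))
        (fun x ⟨c, hc, hx⟩ => hx ▸ (IsUnit.map (algebraMap k B) (isUnit_iff_ne_zero.mpr (nonZeroDivisors.ne_zero hc))))).toRingEquiv
      rw [← ringKrullDim_eq_of_ringEquiv e, ← PrimeSpectrum.topologicalKrullDim_eq_ringKrullDim]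
      refine lt_of_le_of_lt ?_ hdim
      have hemb := PrimeSpectrum.isClosedEmbedding_comap_of_surjective (R := Γ(X, V.1)) B (Ideal.Quotient.mk I)
        Ideal.Quotient.mk_surjective
      let j : PrimeSpectrum B → W := fun z => ⟨hVa.fromSpec (PrimeSpectrum.comap (Ideal.Quotient.mk I) z),
        show PrimeSpectrum.comap (Ideal.Quotient.mk I) z ∈ Z by
          rw [← hI, PrimeSpectrum.mem_zeroLocus]
          intro x hx
          change Ideal.Quotient.mk I x ∈ z.asIdeal
          rw [Ideal.Quotient.eq_zero_iff_mem.mpr hx]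
          exact z.asIdeal.zero_mem⟩
      have hj : Topology.IsInducing j :=
        (hVa.fromSpec.isOpenEmbedding.isInducing.comp hemb.isEmbedding.isInducing).codRestrict _
      exact hj.topologicalKrullDim_le
    obtain ⟨f₀, hf₀, C, hC⟩ := exists_card_over_mul_le (R := k) B hdimB
    refine ⟨C, fun k' _ _ _ => le_trans (Nat.mul_le_mul_right _ (le_of_eq ?_))
      (hC k' (algebraMap k k') ((map_ne_zero_iff _ (algebraMap k k').injective).mpr hf₀))⟩
    let eB : {ψ : Over (algebraMap k k') Γ(X, V.1) // I ≤ RingHom.ker ψ.1} ≃ Over (algebraMap k k') B :=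
      { toFun := fun ψ => ⟨Ideal.Quotient.lift I ψ.1.1 fun x hx => RingHom.mem_ker.mp (ψ.2 hx),
          RingHom.ext fun c => ψ.1.commutes c⟩
        invFun := fun χ => ⟨⟨χ.1.comp (Ideal.Quotient.mk I), RingHom.ext fun c => χ.commutes c⟩, fun x hx =>
          RingHom.mem_ker.mpr (by rw [RingHom.comp_apply, Ideal.Quotient.eq_zero_iff_mem.mpr hx, map_zero])⟩
        left_inv := fun ψ => Subtype.ext (Subtype.ext (RingHom.ext fun x => rfl))
        right_inv := fun χ => Subtype.ext (Ideal.Quotient.ringHom_ext (RingHom.ext fun x => rfl)) }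
    refine Nat.card_congr (((pointsAffineEquiv f hVa k').subtypeEquiv (q := fun g => g.1.pt ∈ W)
      (p := fun ψ => I ≤ RingHom.ker ψ.1) fun ψ => ?_).symm.trans eB)
    rw [pointsAffineEquiv_pt]
    change _ ↔ PrimeSpectrum.comap ψ.1 (IsLocalRing.closedPoint k') ∈ Z
    rw [← hI, PrimeSpectrum.mem_zeroLocus, PrimeSpectrum.comap_asIdeal]
    have : (IsLocalRing.closedPoint k').asIdeal = ⊥ := IsLocalRing.maximalIdeal_eq_bot
    rw [this]
    exact Iff.rfl
  choose C hC using hV
  refine ⟨∑ V, C V, fun k' _ _ _ => ?_⟩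
  haveI := finite_points f k'
  let Φ : (Σ V : s, {g : {g : Points f k' // g.pt ∈ (V.1 : X.Opens)} // g.1.pt ∈ W}) → {g : Points f k' // g.pt ∈ W} :=
    fun z => ⟨z.2.1.1, z.2.2⟩
  have hΦ : Function.Surjective Φ := fun g => by
    obtain ⟨U, hU, hg⟩ := hs g.1.pt
    exact ⟨⟨⟨U, hU⟩, ⟨g.1, hg⟩, g.2⟩, rfl⟩
  refine (Nat.mul_le_mul_right _ (Nat.card_le_card_of_surjective Φ hΦ)).trans ?_
  rw [Nat.card_sigma, Finset.sum_mul, Finset.sum_mul]
  exact Finset.sum_le_sum fun V _ => hC V k'

/-- The points of an irreducible affine piece. -/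
theorem exists_piece_count {U : X.Opens} (hU : IsAffineOpen U) {η : X} (hη : η ∈ U)
    (hsub : (U : Set X) ⊆ closure {η}) {r : ℕ} (hr : topologicalKrullDim (closure ({η} : Set X)) = r) :
    ∃ C : ℕ, ∀ (k' : Type u) [Field k'] [Algebra k k'] [Finite k'],
      (Nat.card (irreducibleComponents
          ↥((pullback.fst f (Spec.map (CommRingCat.ofHom (algebraMap k (AlgebraicClosure k))))).base ⁻¹' closure {η})) ∣
          Module.finrank k k' →
        |(Nat.card {g : Points f k' // g.pt ∈ U} : ℝ) -
          Nat.card (irreducibleComponents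
            ↥((pullback.fst f (Spec.map (CommRingCat.ofHom (algebraMap k (AlgebraicClosure k))))).base ⁻¹' closure {η})) *
            (Nat.card k' : ℝ) ^ r| * Real.sqrt (Nat.card k') ≤ C * (Nat.card k' : ℝ) ^ r) ∧
      (¬ Nat.card (irreducibleComponents
          ↥((pullback.fst f (Spec.map (CommRingCat.ofHom (algebraMap k (AlgebraicClosure k))))).base ⁻¹' closure {η})) ∣
          Module.finrank k k' →
        (Nat.card {g : Points f k' // g.pt ∈ U} : ℝ) * Nat.card k' ≤ C * (Nat.card k' : ℝ) ^ r) := by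
  classical
  letI := sectAlg f hU
  haveI := sectAlg_finiteType f hU
  obtain ⟨hinc, hfib⟩ := fibre_algClosure f hU hη (sectAlg_spec f hU)
  set p := (hU.primeIdealOf ⟨η, hη⟩) with hpdef
  have hm : Nat.card (irreducibleComponents
      ↥((pullback.fst f (Spec.map (CommRingCat.ofHom (algebraMap k (AlgebraicClosure k))))).base ⁻¹' closure {η})) =
      Nat.card (PrimeSpectrum (p.asIdeal.ResidueField ⊗[k] AlgebraicClosure k)) :=
    (card_components_preimage f hinc).trans hfib
  let A := Γ(X, U) ⧸ p.asIdeal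
  haveI := p.2
  have hdimA : ringKrullDim A = (r : WithBot ℕ∞) := by
    letI : X.Over (Spec (CommRingCat.of k)) := ⟨f⟩
    haveI : LocallyOfFiniteType (X ↘ Spec (CommRingCat.of k)) := inferInstanceAs (LocallyOfFiniteType f)
    obtain ⟨n, hn, htr⟩ := Groth.L22.SchemeDim.exists_dim_quotient_eq_trdeg k X hU hη
    obtain ⟨n', hn', htr'⟩ := Groth.L22.SchemeDim.exists_dim_closure_eq_trdeg k X η
    have : n = n' := by exact_mod_cast htr.symm.trans htr'
    rw [hn, this, ← hn', hr]
  obtain ⟨hfd, C, hC⟩ := exists_domain_count (k := k) A p.asIdeal.ResidueField hdimA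
  rw [hm, card_primeSpectrum_tensor]
  refine ⟨C, fun k' _ _ _ => ?_⟩
  have e : Nat.card {g : Points f k' // g.pt ∈ U} = Nat.card (Over (algebraMap k k') A) := by
    have hker : ∀ ψ : Over (algebraMap k k') Γ(X, U), p.asIdeal ≤ RingHom.ker ψ.1 := fun ψ => by
      set Q : PrimeSpectrum Γ(X, U) := PrimeSpectrum.comap ψ.1 (IsLocalRing.closedPoint k') with hQ
      have hmem : hU.fromSpec Q ∈ (U : Set X) := hU.range_fromSpec.le ⟨Q, rfl⟩
      have hsp : p ⤳ Q := hU.fromSpec.isOpenEmbedding.isInducing.specializes_iff.mp (by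
        rw [hpdef, hU.fromSpec_primeIdealOf]
        exact specializes_iff_mem_closure.mpr (hsub hmem))
      have h1 := (PrimeSpectrum.le_iff_specializes p Q).mpr hsp
      refine le_of_le_of_eq h1 ?_
      rw [hQ, PrimeSpectrum.comap_asIdeal,
        show (IsLocalRing.closedPoint k').asIdeal = ⊥ from IsLocalRing.maximalIdeal_eq_bot]
      rfl
    refine Nat.card_congr ((pointsAffineEquiv f hU k').symm.trans
      { toFun := fun ψ => ⟨Ideal.Quotient.lift p.asIdeal ψ.1 fun x hx => RingHom.mem_ker.mp (hker ψ hx),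
          RingHom.ext fun c => ψ.commutes c⟩
        invFun := fun χ => ⟨χ.1.comp (Ideal.Quotient.mk p.asIdeal), RingHom.ext fun c => χ.commutes c⟩
        left_inv := fun ψ => Subtype.ext (RingHom.ext fun x => rfl)
        right_inv := fun χ => Subtype.ext (Ideal.Quotient.ringHom_ext (RingHom.ext fun x => rfl)) })
  rw [e]
  exact hC k'

end Groth.L03.LangWeil
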