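import Groth.Agent.L03.LangWeil.Main
import Groth.Agent.S6333
import Mathlib.FieldTheory.Finite.GaloisField
import Mathlib.FieldTheory.AlgebraicClosure

/-!
Points of an affine variety over a finite field.
-/

set_option autoImplicit false
universe u

open Polynomial

namespace Groth.L03.LangWeil

variable {k : Type u} [Field k] [Finite k]

/-- Equal rings have equally many points. -/
theorem card_over_congr {R : Type u} [CommRing R] {A B : Type u} [CommRing A] [CommRing B] [Algebra R A]
    [Algebra R B] (e : A ≃ₐ[R] B) {F : Type u} [CommRing F] (φ : R →+* F) :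
    Nat.card (Over φ A) = Nat.card (Over φ B) :=
  Nat.card_congr
    { toFun := fun ψ => ⟨ψ.1.comp e.symm.toRingEquiv.toRingHom, RingHom.ext fun r => by
        simpa using ψ.commutes r⟩
      invFun := fun χ => ⟨χ.1.comp e.toRingEquiv.toRingHom, RingHom.ext fun r => by
        simpa using χ.commutes r⟩
      left_inv := fun ψ => Subtype.ext (RingHom.ext fun a => by simp)
      right_inv := fun χ => Subtype.ext (RingHom.ext fun a => by simp) }

set_option maxHeartbeats 800000 in
/-- The points of an affine domain over a finite field. -/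
theorem exists_domain_count (A : Type u) [CommRing A] [IsDomain A] [Algebra k A] [Algebra.FiniteType k A]
    (L : Type u) [Field L] [Algebra A L] [IsFractionRing A L] [Algebra k L] [IsScalarTower k A L] {r : ℕ}
    (hr : ringKrullDim A = (r : WithBot ℕ∞)) :
    FiniteDimensional k (algebraicClosure k L) ∧
    ∃ C : ℕ, ∀ (F : Type u) [Field F] [Algebra k F] [Finite F],
      (Module.finrank k (algebraicClosure k L) ∣ Module.finrank k F →
        |(Nat.card (Over (algebraMap k F) A) : ℝ) -
            Module.finrank k (algebraicClosure k L) * (Nat.card F : ℝ) ^ r| * Real.sqrt (Nat.card F) ≤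
          C * (Nat.card F : ℝ) ^ r) ∧
      (¬ Module.finrank k (algebraicClosure k L) ∣ Module.finrank k F →
        (Nat.card (Over (algebraMap k F) A) : ℝ) * Nat.card F ≤ C * (Nat.card F : ℝ) ^ r) := by
  classical
  have htr : Algebra.trdeg k L = r := Groth.L22.AffineDim.trdeg_fractionRing k A L hr
  haveI hEA : Algebra.EssFiniteType A L := Algebra.EssFiniteType.of_isLocalization L (nonZeroDivisors A)
  haveI : Algebra.EssFiniteType k L := Algebra.EssFiniteType.comp k A L
  haveI hfd : FiniteDimensional k (algebraicClosure k L) :=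
    Groth.Agent.S6333.result (IntermediateField.fg_top k L)
  refine ⟨hfd, ?_⟩
  let κ := algebraicClosure k L
  haveI : Finite κ := Module.finite_of_finite k
  haveI : Algebra.EssFiniteType κ L := Algebra.EssFiniteType.of_comp k κ L
  obtain ⟨s, hs, hsep⟩ := exists_isTranscendenceBasis_and_isSeparable_of_perfectField κ L
  let t : Fin s.card → L := fun i => (s.equivFin.symm i : L)
  have ht : AlgebraicIndependent κ t := hs.1.comp _ s.equivFin.symm.injective
  have hrange : Set.range t = (s : Set L) := by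
    ext x
    exact ⟨fun ⟨j, hj⟩ => hj ▸ (s.equivFin.symm j).2, fun hx => ⟨s.equivFin ⟨x, hx⟩, by simp [t]⟩⟩
  haveI : Algebra.IsSeparable (IntermediateField.adjoin κ (Set.range t)) L := by rw [hrange]; exact hsep
  have hclosed : ∀ z : L, IsIntegral κ z → z ∈ Set.range (algebraMap κ L) := fun z hz =>
    ⟨⟨z, mem_algebraicClosure_iff.mpr (isIntegral_trans (R := k) (A := κ) z hz).isAlgebraic⟩, rfl⟩
  have hκ : Algebra.trdeg κ L = r := by
    have := trdeg_add_eq k κ (A := L)
    rwa [trdeg_eq_zero (R := k) (A := κ), zero_add, htr] at this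
  have hcard : s.card = r := by
    have := (trdeg_eq ht).symm.trans hκ
    exact_mod_cast this
  -- models
  let jA : A →ₐ[k] L := IsScalarTower.toAlgHom k A L
  let A₀ : Subalgebra k L := jA.range
  have hA₀ : A₀.FG := by
    rw [show A₀ = (⊤ : Subalgebra k A).map jA from (Algebra.map_top jA).symm]
    exact Algebra.FiniteType.out.map jA
  have hgen₀ : GenOver A₀ := fun z => by
    obtain ⟨a, b, hb, h⟩ := IsFractionRing.div_surjective (A := A) z
    exact ⟨_, ⟨a, rfl⟩, _, ⟨b, rfl⟩,
      (map_ne_zero_iff _ (IsFractionRing.injective A L)).mpr (nonZeroDivisors.ne_zero hb), h.symm⟩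
  let eA : A ≃ₐ[k] A₀ := AlgEquiv.ofInjective jA (IsFractionRing.injective A L)
  let A₁ : Subalgebra κ L := Algebra.adjoin κ (A₀ : Set L)
  have hA₁ : A₁.FG := by
    obtain ⟨S, hS⟩ := hA₀
    refine ⟨S, le_antisymm (Algebra.adjoin_mono (hS ▸ Algebra.subset_adjoin)) (Algebra.adjoin_le fun x hx => ?_)⟩
    rw [SetLike.mem_coe, ← hS] at hx
    induction hx using Algebra.adjoin_induction with
    | mem x hx => exact Algebra.subset_adjoin hx
    | algebraMap c =>
      rw [IsScalarTower.algebraMap_apply k κ L]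
      exact Subalgebra.algebraMap_mem _ _
    | add y y' _ _ hy hy' => exact add_mem hy hy'
    | mul y y' _ _ hy hy' => exact mul_mem hy hy'
  have hle : A₀ ≤ A₁.restrictScalars k := fun x hx => Algebra.subset_adjoin hx
  have hgen₁ : GenOver A₁ := fun z => by
    obtain ⟨a, ha, b, hb, hb0, h⟩ := hgen₀ z
    exact ⟨a, hle ha, b, hle hb, hb0, h⟩
  have hA₁' : (A₁.restrictScalars k).FG := by
    haveI : Algebra.FiniteType κ A₁ := (Subalgebra.fg_iff_finiteType _).mp hA₁
    haveI : Algebra.FiniteType k κ := inferInstance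
    haveI : Algebra.FiniteType k A₁ := Algebra.FiniteType.trans (R := k) (S := κ) (A := A₁) inferInstance inferInstance
    exact (Subalgebra.fg_iff_finiteType _).mpr this
  obtain ⟨f₁, hf₁, C₁, h₁⟩ := est_of_regular s.card (R := κ) (K := κ) t ht hclosed A₁ hA₁ hgen₁
  obtain ⟨f₂, hf₂, C₂, h₂⟩ := exists_abs_card_sub_mul_le (R := k) (K := k) hA₀ hA₁' hgen₀ hle htr
  refine ⟨Module.finrank k κ * C₁ + C₂, fun F _ _ _ => ?_⟩
  have hd := h₂ F (algebraMap k F) ((map_ne_zero_iff _ (algebraMap k F).injective).mpr hf₂)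
  rw [← card_over_congr eA (algebraMap k F)] at hd
  set m := Module.finrank k κ
  set q : ℝ := (Nat.card F : ℝ)
  have hq : (0 : ℝ) ≤ q := Nat.cast_nonneg _
  haveI : Fintype (κ →ₐ[k] F) := Fintype.ofFinite _
  haveI : Algebra.FiniteType κ A₁ := (Subalgebra.fg_iff_finiteType _).mp hA₁
  have hsig : Nat.card (Over (algebraMap k F) (A₁.restrictScalars k)) =
      ∑ σ : κ →ₐ[k] F, Nat.card (Over σ.toRingHom A₁) := by
    haveI : ∀ σ : κ →ₐ[k] F, Finite (Over σ.toRingHom A₁) := fun σ => finite_over σ.toRingHom A₁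
    rw [← Nat.card_sigma]
    refine Nat.card_congr
      { toFun := fun ψ => ⟨{ (ψ.1.comp (algebraMap κ A₁) : κ →+* F) with commutes' := fun c => ψ.commutes c },
          ⟨ψ.1, rfl⟩⟩
        invFun := fun z => ⟨z.2.1, RingHom.ext fun c => (z.2.commutes (algebraMap k κ c)).trans (z.1.commutes c)⟩
        left_inv := fun ψ => rfl
        right_inv := fun z => @Sigma.subtype_ext _ _
          (fun (σ : κ →ₐ[k] F) (χ : A₁ →+* F) => χ.comp (algebraMap κ A₁) = σ.toRingHom) _ _
          (AlgHom.ext fun c => z.2.commutes c) rfl }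
  rw [hsig] at hd
  push_cast
  refine ⟨fun hdvd => ?_, fun hndvd => ?_⟩
  · have hcardσ : Fintype.card (κ →ₐ[k] F) = m := by
      rw [← Nat.card_eq_fintype_card]; exact FiniteField.natCard_algHom_of_finrank_dvd hdvd
    set T : ℝ := ((∑ σ : κ →ₐ[k] F, Nat.card (Over σ.toRingHom A₁) : ℕ) : ℝ)
    have hT : |T - m * q ^ r| * Real.sqrt q ≤ m * C₁ * q ^ r := by
      have e : T - m * q ^ r = ∑ σ : κ →ₐ[k] F, ((Nat.card (Over σ.toRingHom A₁) : ℝ) - q ^ r) := by
        rw [Finset.sum_sub_distrib, Finset.sum_const, Finset.card_univ, hcardσ, nsmul_eq_mul]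
        simp only [T, Nat.cast_sum]
      rw [e]
      refine (mul_le_mul_of_nonneg_right (Finset.abs_sum_le_sum_abs _ _) (Real.sqrt_nonneg _)).trans ?_
      rw [Finset.sum_mul]
      refine (Finset.sum_le_sum (g := fun _ => (C₁ : ℝ) * q ^ r) fun σ _ => ?_).trans (le_of_eq ?_)
      · rw [← hcard]
        exact h₁ F σ.toRingHom ((map_ne_zero_iff _ σ.toRingHom.injective).mpr hf₁)
      · rw [Finset.sum_const, Finset.card_univ, hcardσ, nsmul_eq_mul, mul_assoc]
    rw [add_mul]
    refine le_trans ?_ (add_le_add hT ((mul_le_mul_of_nonneg_left sqrt_card_le (abs_nonneg _)).trans hd))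
    rw [← add_mul]
    refine mul_le_mul_of_nonneg_right ?_ (Real.sqrt_nonneg _)
    rw [add_comm]
    exact abs_sub_le _ _ _
  · haveI : IsEmpty (κ →ₐ[k] F) := ⟨fun σ => hndvd (FiniteField.nonempty_algHom_iff_finrank_dvd.mp ⟨σ⟩)⟩
    rw [Finset.univ_eq_empty, Finset.sum_empty, Nat.cast_zero, sub_zero, Nat.abs_cast] at hd
    refine hd.trans ?_
    refine mul_le_mul_of_nonneg_right ?_ (pow_nonneg hq _)
    have : (0 : ℝ) ≤ m * C₁ := by positivity
    linarith

end Groth.L03.LangWeil
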