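import Groth.Agent.L03.LangWeil.Spread
import Mathlib.RingTheory.Localization.Away.Basic
import Mathlib.RingTheory.FiniteType
import Mathlib.Algebra.Polynomial.Eval.Irreducible

/-!
The fibres of a family of geometrically irreducible curves have `q + O(√q)` rational points.
-/

set_option autoImplicit false
universe u

open Polynomial Groth.L11.Zeta

namespace Groth.L03.LangWeil

/-- Homomorphisms over a given one. -/
def Over {B : Type u} [CommRing B] {F : Type u} [CommRing F] (φ : B →+* F) (A : Type u) [CommRing A]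
    [Algebra B A] : Type u :=
  {ψ : A →+* F // ψ.comp (algebraMap B A) = φ}

theorem Over.commutes {B : Type u} [CommRing B] {F : Type u} [CommRing F] {φ : B →+* F} {A : Type u} [CommRing A]
    [Algebra B A] (ψ : Over φ A) (b : B) : ψ.1 (algebraMap B A b) = φ b :=
  RingHom.congr_fun ψ.2 b

variable {B : Type u} [CommRing B] [IsDomain B] {K₀ : Type u} [Field K₀] [Algebra B K₀] [IsFractionRing B K₀]
  {L : Type u} [Field L] [Algebra (RatFunc K₀) L]

section Model

variable (L)

/-- Evaluation at the generic point, over `B`. -/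
noncomputable def evB (θ : L) : B[X][X] →+* L :=
  Polynomial.eval₂RingHom ((algebraMap (RatFunc K₀) L).comp (toRat K₀)) θ

variable {L}

theorem evB_apply (θ : L) (a : B[X][X]) :
    evB (K₀ := K₀) L θ a = Polynomial.aeval θ (a.map (toRat K₀)) := by
  rw [evB, Polynomial.coe_eval₂RingHom, Polynomial.aeval_def, Polynomial.eval₂_map]

/-- A polynomial vanishing at the generic point vanishes at every point of the curve. -/
theorem evPt_eq_zero_of_evB_eq_zero {g : B[X][X]} (hg : g.Monic) (hd : 0 < g.natDegree) {θ : L}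
    (hroot : evB (K₀ := K₀) L θ g = 0) (hmin : (minpoly (RatFunc K₀) θ).natDegree = g.natDegree)
    {F : Type u} [Field F] {φ : B →+* F} {x0 y0 : F} (hpt : evPt x0 y0 (g.map (Polynomial.mapRingHom φ)) = 0)
    {a : B[X][X]} (ha : evB (K₀ := K₀) L θ a = 0) : evPt x0 y0 (a.map (Polynomial.mapRingHom φ)) = 0 := by
  have hdvd : a %ₘ g = 0 := by
    by_contra hne
    have hm : evB (K₀ := K₀) L θ (a %ₘ g) = 0 := by
      have := congrArg (evB (K₀ := K₀) L θ) (Polynomial.modByMonic_add_div a g)
      rw [map_add, map_mul, hroot, zero_mul, add_zero, ha] at this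
      exact this
    rw [evB_apply] at hm
    have hne' : (a %ₘ g).map (toRat K₀) ≠ 0 := (Polynomial.map_ne_zero_iff (toRat_injective K₀)).mpr hne
    have h1 := Polynomial.natDegree_le_of_dvd (minpoly.dvd (RatFunc K₀) θ hm) hne'
    rw [hmin, Polynomial.natDegree_map_eq_of_injective (toRat_injective K₀)] at h1
    have hg1 : g ≠ 1 := fun h => by rw [h, Polynomial.natDegree_one] at hd; omega
    exact absurd h1 (not_le.mpr (Polynomial.natDegree_modByMonic_lt a hg hg1))
  rw [← Polynomial.modByMonic_add_div a g, hdvd, zero_add, Polynomial.map_mul, map_mul, hpt, zero_mul]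

end Model

variable [Algebra K₀ L] [IsScalarTower K₀ (RatFunc K₀) L] [FiniteDimensional (RatFunc K₀) L]
  [Algebra.IsSeparable (RatFunc K₀) L]

/-- A primitive element with a monic equation over `B`. -/
theorem exists_equation_over (hclosed : ∀ z : L, IsIntegral K₀ z → z ∈ Set.range (algebraMap K₀ L)) :
    ∃ (θ : L) (g : B[X][X]), g.Monic ∧ 0 < g.natDegree ∧ evB (K₀ := K₀) L θ g = 0 ∧
      (minpoly (RatFunc K₀) θ).natDegree = g.natDegree ∧
      IntermediateField.adjoin (RatFunc K₀) ({θ} : Set L) = ⊤ ∧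
      (g.map (toRat K₀)).Separable ∧
      Irreducible (g.map (Polynomial.mapRingHom ((algebraMap K₀ (AlgebraicClosure K₀)).comp (algebraMap B K₀)))) := by
  classical
  obtain ⟨θ0, hθ0⟩ := Field.exists_primitive_element (RatFunc K₀) L
  set m := minpoly (RatFunc K₀) θ0
  have hint0 : IsIntegral (RatFunc K₀) θ0 := IsIntegral.of_finite _ θ0
  have hm : m.Monic := minpoly.monic hint0
  obtain ⟨c, hc, P, hP⟩ : ∃ c : B[X], c ≠ 0 ∧ ∃ P : B[X][X], P.map (toRat K₀) = Polynomial.C (toRat K₀ c) * m := by
    letI := (toRat (B := B) K₀).toAlgebra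
    haveI := isFractionRing_toRat (B := B) K₀
    obtain ⟨c, hc, h⟩ := IsLocalization.integerNormalization_spec (nonZeroDivisors B[X]) m
    refine ⟨c, nonZeroDivisors.ne_zero hc, IsLocalization.integerNormalization (nonZeroDivisors B[X]) m, ?_⟩
    rw [show toRat K₀ = algebraMap B[X] (RatFunc K₀) from rfl, h, ← algebraMap_smul (RatFunc K₀) c m,
      Polynomial.smul_eq_C_mul]
  set c' := toRat K₀ c
  have hc' : c' ≠ 0 := (map_ne_zero_iff _ (toRat_injective K₀)).mpr hc
  set θ : L := algebraMap (RatFunc K₀) L c' * θ0 with hθdef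
  have hlifts : m.scaleRoots c' ∈ Polynomial.lifts (toRat (B := B) K₀) := by
    refine (Polynomial.lifts_iff_coeff_lifts _).mpr fun i => ?_
    rw [Polynomial.coeff_scaleRoots]
    rcases lt_trichotomy i m.natDegree with hi | hi | hi
    · refine ⟨P.coeff i * c ^ (m.natDegree - i - 1), ?_⟩
      have := congrArg (fun p : (RatFunc K₀)[X] => p.coeff i) hP
      simp only [Polynomial.coeff_map, Polynomial.coeff_C_mul] at this
      rw [map_mul, map_pow, this, show m.natDegree - i = (m.natDegree - i - 1) + 1 by omega, pow_succ]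
      simp only [Nat.add_sub_cancel]
      ring
    · exact ⟨1, by rw [map_one, hi, hm.coeff_natDegree, Nat.sub_self, pow_zero, one_mul]⟩
    · exact ⟨0, by rw [map_zero, Polynomial.coeff_eq_zero_of_natDegree_lt hi, zero_mul]⟩
  obtain ⟨g, hgmap, -, hgm⟩ :=
    Polynomial.lifts_and_degree_eq_and_monic hlifts ((Polynomial.monic_scaleRoots_iff c').mpr hm)
  have hgd : g.natDegree = m.natDegree := by
    rw [← hgm.natDegree_map (toRat K₀), hgmap, Polynomial.natDegree_scaleRoots]
  have hroot : Polynomial.aeval θ (g.map (toRat K₀)) = 0 := by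
    rw [hgmap, hθdef]; exact Polynomial.scaleRoots_aeval_eq_zero (minpoly.aeval _ _)
  have htop : IntermediateField.adjoin (RatFunc K₀) ({θ} : Set L) = ⊤ := by
    rw [← hθ0]
    refine le_antisymm (hθ0 ▸ le_top) (IntermediateField.adjoin_simple_le_iff.mpr ?_)
    have h1 : θ0 = (algebraMap (RatFunc K₀) L c')⁻¹ * θ := by
      rw [hθdef, ← mul_assoc, inv_mul_cancel₀ ((_root_.map_ne_zero _).mpr hc'), one_mul]
    rw [h1]
    exact mul_mem (inv_mem (IntermediateField.algebraMap_mem _ _)) (IntermediateField.mem_adjoin_simple_self _ _)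
  have hint : IsIntegral (RatFunc K₀) θ := IsIntegral.of_finite _ θ
  have hfin : Module.finrank (RatFunc K₀) L = g.natDegree := by
    rw [hgd, ← IntermediateField.finrank_top', ← hθ0, IntermediateField.adjoin.finrank hint0]
  have hmindeg : (minpoly (RatFunc K₀) θ).natDegree = g.natDegree := by
    rw [← hfin, ← IntermediateField.finrank_top', ← htop, IntermediateField.adjoin.finrank hint]
  have hmin : g.map (toRat K₀) = minpoly (RatFunc K₀) θ :=
    (Polynomial.eq_of_monic_of_dvd_of_natDegree_le (minpoly.monic hint) (hgm.map _) (minpoly.dvd _ _ hroot)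
      (by rw [hgm.natDegree_map, hmindeg]))
  set gK := g.map (Polynomial.mapRingHom (algebraMap B K₀)) with hgK
  have hgKmap : gK.map (algebraMap K₀[X] (RatFunc K₀)) = g.map (toRat K₀) := by
    rw [hgK, Polynomial.map_map]; rfl
  have hgKm : gK.Monic := hgm.map _
  have hgKd : gK.natDegree = g.natDegree := hgm.natDegree_map _
  have hirrK : Irreducible gK := Polynomial.Monic.irreducible_of_irreducible_map (algebraMap K₀[X] (RatFunc K₀)) gK hgKm
    (by rw [hgKmap, hmin]; exact minpoly.irreducible hint)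
  have hsep : (g.map (toRat K₀)).Separable := hmin ▸ Algebra.IsSeparable.isSeparable (RatFunc K₀) θ
  have hsep' : Polynomial.derivative gK ≠ 0 := fun h0 => by
    have h1 := hsep
    rw [← hgKmap, Polynomial.separable_def, Polynomial.derivative_map, h0, Polynomial.map_zero,
      isCoprime_zero_right] at h1
    have := Polynomial.natDegree_eq_zero_of_isUnit h1
    rw [hgKm.natDegree_map, hgKd, hgd] at this
    exact (minpoly.natDegree_pos hint0).ne' this
  refine ⟨θ, g, hgm, hgd ▸ minpoly.natDegree_pos hint0, by rw [evB_apply, hroot], hmindeg, htop, hsep, ?_⟩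
  rw [← Polynomial.mapRingHom_comp, ← Polynomial.map_map]
  exact irreducible_map_algClosure hgKm (by rw [hgKmap]; exact hroot) (hfin.trans hgKd.symm) hirrK hclosed hsep'

variable {A : Type u} [CommRing A] [IsDomain A] [Algebra B A] [Algebra.FiniteType B A] [Algebra A L]
  [IsFractionRing A L]

/-- The fibres of a family of geometrically irreducible curves have `q + O(√q)` points. -/
theorem exists_curve_family (hclosed : ∀ z : L, IsIntegral K₀ z → z ∈ Set.range (algebraMap K₀ L))
    (hcomp : ∀ b : B, algebraMap A L (algebraMap B A b) = algebraMap K₀ L (algebraMap B K₀ b)) :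
    ∃ a : A, a ≠ 0 ∧ ∃ D : B, D ≠ 0 ∧ ∃ C : ℕ, ∀ (F : Type u) [Field F] [Finite F] (φ : B →+* F), φ D ≠ 0 →
      |(Nat.card {ψ : Over φ A // ψ.1 a ≠ 0} : ℝ) - Nat.card F| ≤ C * Real.sqrt (Nat.card F) := by
  classical
  obtain ⟨θ, g, hg, hd, hroot, hmin, htop, hsep, hirr⟩ := exists_equation_over (B := B) hclosed
  set ι := algebraMap A L
  have hιinj : Function.Injective ι := IsFractionRing.injective A L
  set x : L := algebraMap (RatFunc K₀) L RatFunc.X
  set jB : B[X][X] →+* L := evB (K₀ := K₀) L θ
  have hjC : ∀ b : B, jB (Polynomial.C (Polynomial.C b)) = ι (algebraMap B A b) := fun b => by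
    simp only [jB, evB, toRat, Polynomial.coe_eval₂RingHom, Polynomial.eval₂_C, RingHom.comp_apply,
      Polynomial.coe_mapRingHom, Polynomial.map_C, RatFunc.algebraMap_C, hcomp]
    rw [← RatFunc.algebraMap_eq_C, ← IsScalarTower.algebraMap_apply]
  have hjX : jB (Polynomial.C Polynomial.X) = x := by
    simp [jB, evB, toRat, x, RatFunc.algebraMap_X]
  have hjY : jB Polynomial.X = θ := by simp [jB, evB]
  -- every element is a fraction of values
  have hfrac : ∀ w : L, ∃ s : B[X], s ≠ 0 ∧ ∃ P : B[X][X], w * jB (Polynomial.C s) = jB P := fun w => by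
    have hw : w ∈ Algebra.adjoin (RatFunc K₀) ({θ} : Set L) := by
      rw [← IntermediateField.adjoin_simple_toSubalgebra_of_isAlgebraic (IsIntegral.of_finite _ θ).isAlgebraic, htop]
      trivial
    rw [Algebra.adjoin_singleton_eq_range_aeval] at hw
    obtain ⟨q, rfl⟩ := hw
    letI := (toRat (B := B) K₀).toAlgebra
    haveI := isFractionRing_toRat (B := B) K₀
    obtain ⟨s, hs, h⟩ := IsLocalization.integerNormalization_spec (nonZeroDivisors B[X]) q
    refine ⟨s, nonZeroDivisors.ne_zero hs, IsLocalization.integerNormalization (nonZeroDivisors B[X]) q, ?_⟩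
    have h' : (IsLocalization.integerNormalization (nonZeroDivisors B[X]) q).map (toRat K₀) = s • q := h
    simp only [jB, evB_apply, Polynomial.map_C, Polynomial.aeval_C]
    rw [h', ← algebraMap_smul (RatFunc K₀) s q, Polynomial.smul_eq_C_mul, map_mul, Polynomial.aeval_C]
    exact mul_comm _ _
  choose sw hsw Pw hPw using hfrac
  -- numerators and denominators of `x` and `θ`
  obtain ⟨xn, xd, hxd, hx⟩ := IsFractionRing.div_surjective (A := A) x
  obtain ⟨tn, td, htd, ht⟩ := IsFractionRing.div_surjective (A := A) θ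
  change ι xn / ι xd = x at hx
  change ι tn / ι td = θ at ht
  have hxd' : ι xd ≠ 0 := (map_ne_zero_iff _ hιinj).mpr (nonZeroDivisors.ne_zero hxd)
  have htd' : ι td ≠ 0 := (map_ne_zero_iff _ hιinj).mpr (nonZeroDivisors.ne_zero htd)
  set a0 := xd * td
  have ha0 : a0 ≠ 0 := mul_ne_zero (nonZeroDivisors.ne_zero hxd) (nonZeroDivisors.ne_zero htd)
  obtain ⟨G, hG⟩ := (Algebra.FiniteType.out : (⊤ : Subalgebra B A).FG)
  let W : Finset L := insert (ι a0)⁻¹ (G.image ι)
  obtain ⟨r, hr0, hrdvd, U, V, hUV⟩ :=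
    exists_smooth_locus K₀ hsep (s := ∏ w ∈ W, sw w) (Finset.prod_ne_zero_iff.mpr fun w _ => hsw w)
  obtain ⟨D, hD, C, hcount⟩ := exists_fibre_count K₀ hg hd hirr hr0 hUV
  have hjr : jB (Polynomial.C r) ≠ 0 := by
    simp only [jB, evB_apply, Polynomial.map_C, Polynomial.aeval_C]
    exact (_root_.map_ne_zero _).mpr ((map_ne_zero_iff _ (toRat_injective K₀)).mpr hr0)
  -- the numerator of `r(x)`
  obtain ⟨a1, N, ha1⟩ : ∃ (a1 : A) (N : ℕ), ι a1 = ι a0 ^ N * jB (Polynomial.C r) := by
    refine ⟨∑ i ∈ Finset.range (r.natDegree + 1),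
      algebraMap B A (r.coeff i) * xn ^ i * td ^ i * a0 ^ (r.natDegree - i), r.natDegree, ?_⟩
    have hsum : jB (Polynomial.C r) = ∑ i ∈ Finset.range (r.natDegree + 1), ι (algebraMap B A (r.coeff i)) * x ^ i := by
      conv_lhs => rw [r.as_sum_range_C_mul_X_pow]
      simp only [map_sum, map_mul, map_pow, hjC, hjX]
    rw [hsum]
    simp only [map_sum, map_mul, map_pow, Finset.mul_sum]
    refine Finset.sum_congr rfl fun i hi => ?_
    have hi' : i ≤ r.natDegree := Nat.lt_succ_iff.mp (Finset.mem_range.mp hi)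
    rw [← hx, div_pow]
    conv_rhs => rw [← Nat.sub_add_cancel hi', pow_add]
    simp only [a0, map_mul, mul_pow]
    field_simp
  set a := a0 * a1
  have ha : a ≠ 0 := mul_ne_zero ha0 fun h => by
    rw [h, map_zero] at ha1
    exact mul_ne_zero (pow_ne_zero _ ((map_ne_zero_iff _ hιinj).mpr ha0)) hjr ha1.symm
  have hιa : ι a ≠ 0 := (map_ne_zero_iff _ hιinj).mpr ha
  refine ⟨a, ha, D, hD, C, fun F _ _ φ hφ => ?_⟩
  -- the localisation at `a`, inside `L`
  let Aa := Localization.Away a
  let ιa : Aa →+* L := IsLocalization.Away.lift a (isUnit_iff_ne_zero.mpr hιa)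
  have hιa' : ∀ z, ιa (algebraMap A Aa z) = ι z := IsLocalization.Away.lift_eq a _
  have hιainj : Function.Injective ιa := (IsLocalization.lift_injective_iff _).mpr fun z z' =>
    ⟨fun h => congrArg ι ((IsLocalization.injective Aa (powers_le_nonZeroDivisors_of_noZeroDivisors ha)) h),
      fun h => congrArg _ (hιinj h)⟩
  have hunit : IsUnit (algebraMap A Aa a) := IsLocalization.Away.algebraMap_isUnit a
  have hu0 : IsUnit (algebraMap A Aa a0) := isUnit_of_mul_isUnit_left (map_mul (algebraMap A Aa) a0 a1 ▸ hunit)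
  have hu1 : IsUnit (algebraMap A Aa a1) := isUnit_of_mul_isUnit_right (map_mul (algebraMap A Aa) a0 a1 ▸ hunit)
  have hud := IsUnit.mul_iff.mp (map_mul (algebraMap A Aa) xd td ▸ hu0 :)
  let x' : Aa := algebraMap A Aa xn * hud.1.unit⁻¹
  let t' : Aa := algebraMap A Aa tn * hud.2.unit⁻¹
  let Θ : B[X][X] →+* Aa := Polynomial.eval₂RingHom
    (Polynomial.eval₂RingHom ((algebraMap A Aa).comp (algebraMap B A)) x') t'
  have hιx : ιa x' = x := by
    rw [map_mul, hιa', ← hx, div_eq_mul_inv]
    congr 1
    refine eq_inv_of_mul_eq_one_left ?_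
    rw [← hιa', ← map_mul, IsUnit.val_inv_mul, map_one]
  have hιt : ιa t' = θ := by
    rw [map_mul, hιa', ← ht, div_eq_mul_inv]
    congr 1
    refine eq_inv_of_mul_eq_one_left ?_
    rw [← hιa', ← map_mul, IsUnit.val_inv_mul, map_one]
  have hΘ : ∀ P, ιa (Θ P) = jB P := by
    have : ιa.comp Θ = jB := Polynomial.ringHom_ext' (Polynomial.ringHom_ext' (RingHom.ext fun b => by
        simp only [Θ, RingHom.comp_apply, Polynomial.coe_eval₂RingHom, Polynomial.eval₂_C, hιa', hjC])
      (by simp only [Θ, RingHom.comp_apply, Polynomial.coe_eval₂RingHom, Polynomial.eval₂_C, Polynomial.eval₂_X, hιx, hjX]))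
      (by simp only [Θ, RingHom.comp_apply, Polynomial.coe_eval₂RingHom, Polynomial.eval₂_X, hιt, hjY])
    exact RingHom.congr_fun this
  -- evaluation at a point
  let ε : F → F → B[X][X] →+* F := fun x0 y0 => (evPt x0 y0).comp (Polynomial.mapRingHom (Polynomial.mapRingHom φ))
  have hεC : ∀ x0 y0 (s : B[X]), ε x0 y0 (Polynomial.C s) = (s.map φ).eval x0 := fun x0 y0 s => by simp [ε, evPt]
  have hεpt : ∀ {x0 y0}, (x0, y0) ∈ Pts (g.map (Polynomial.mapRingHom φ)) (r.map φ) →
      ∀ {P}, jB P = 0 → ε x0 y0 P = 0 := fun {x0 y0} h {P} hP =>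
    evPt_eq_zero_of_evB_eq_zero hg hd hroot hmin h.2 hP
  -- from homomorphisms to points
  have hψu : ∀ ψ : {ψ : Over φ A // ψ.1 a ≠ 0}, IsUnit (ψ.1.1 a) := fun ψ => isUnit_iff_ne_zero.mpr ψ.2
  let pt : {ψ : Over φ A // ψ.1 a ≠ 0} → F × F := fun ψ =>
    (IsLocalization.Away.lift (S := Aa) a (hψu ψ) x',
      IsLocalization.Away.lift (S := Aa) a (hψu ψ) t')
  have hext : ∀ (ψ : {ψ : Over φ A // ψ.1 a ≠ 0}) P,
      IsLocalization.Away.lift (S := Aa) a (hψu ψ) (Θ P) = ε (pt ψ).1 (pt ψ).2 P := by
    intro ψ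
    have : (IsLocalization.Away.lift (S := Aa) a (hψu ψ)).comp Θ = ε (pt ψ).1 (pt ψ).2 :=
      Polynomial.ringHom_ext' (Polynomial.ringHom_ext' (RingHom.ext fun b => by
          simp only [Θ, ε, evPt, RingHom.comp_apply, Polynomial.coe_eval₂RingHom, Polynomial.eval₂_C,
            IsLocalization.Away.lift_eq, Polynomial.coe_mapRingHom, Polynomial.map_C, Polynomial.coe_evalRingHom,
            Polynomial.eval_C]
          exact ψ.1.commutes b)
        (by simp only [Θ, ε, pt, evPt, RingHom.comp_apply, Polynomial.coe_eval₂RingHom, Polynomial.eval₂_C,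
          Polynomial.eval₂_X, Polynomial.coe_mapRingHom, Polynomial.map_C, Polynomial.map_X, Polynomial.coe_evalRingHom,
          Polynomial.eval_X]))
        (by simp only [Θ, ε, pt, evPt, RingHom.comp_apply, Polynomial.coe_eval₂RingHom, Polynomial.eval₂_X,
          Polynomial.coe_mapRingHom, Polynomial.map_X])
    exact RingHom.congr_fun this
  have hmem : ∀ ψ, pt ψ ∈ Pts (g.map (Polynomial.mapRingHom φ)) (r.map φ) := fun ψ => by
    refine ⟨fun h0 => ?_, ?_⟩
    · have h1 : algebraMap A Aa a1 = algebraMap A Aa a0 ^ N * Θ (Polynomial.C r) := hιainj (by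
        rw [map_mul, map_pow, hΘ, hιa', hιa', ha1])
      have h2 := congrArg (IsLocalization.Away.lift (S := Aa) a (hψu ψ)) h1
      rw [map_mul, IsLocalization.Away.lift_eq, hext, hεC, h0, mul_zero] at h2
      exact ψ.2 (show ψ.1.1 (a0 * a1) = 0 by rw [map_mul, h2, mul_zero])
    · change ε (pt ψ).1 (pt ψ).2 g = 0
      rw [← hext, show Θ g = 0 from hιainj (by rw [map_zero, hΘ]; exact hroot), map_zero]
  -- generators and the inverse of `a0` in terms of the coordinates
  have hgen : ∀ w ∈ W, ∃ P : B[X][X], w * jB (Polynomial.C r) = jB P := fun w hw => by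
    obtain ⟨c, hc⟩ := (Finset.dvd_prod_of_mem sw hw).trans hrdvd
    refine ⟨Pw w * Polynomial.C c, ?_⟩
    rw [hc, map_mul Polynomial.C, map_mul, map_mul, ← mul_assoc, hPw]
  have hequiv : Function.Bijective fun ψ => (⟨pt ψ, hmem ψ⟩ : Pts (g.map (Polynomial.mapRingHom φ)) (r.map φ)) := by
    constructor
    · intro ψ ψ' h
      have hp : pt ψ = pt ψ' := congrArg Subtype.val h
      refine Subtype.ext (Subtype.ext ?_)
      refine RingHom.ext fun z => ?_
      have hz : z ∈ Algebra.adjoin B (G : Set A) := hG ▸ Algebra.mem_top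
      induction hz using Algebra.adjoin_induction with
      | mem z hz =>
        obtain ⟨P, hP⟩ := hgen (ι z) (Finset.mem_insert_of_mem (Finset.mem_image_of_mem _ hz))
        have h1 : algebraMap A Aa z * Θ (Polynomial.C r) = Θ P := hιainj (by rw [map_mul, hΘ, hΘ, hιa', hP])
        have h2 : ∀ χ, χ.1.1 z * ε (pt χ).1 (pt χ).2 (Polynomial.C r) = ε (pt χ).1 (pt χ).2 P := fun χ => by
          have := congrArg (IsLocalization.Away.lift (S := Aa) a (hψu χ)) h1
          rwa [map_mul, IsLocalization.Away.lift_eq, hext, hext] at this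
        have h3 := h2 ψ
        rw [hp, ← h2 ψ'] at h3
        exact mul_right_cancel₀ (by rw [hεC]; exact (hmem ψ').1) h3
      | algebraMap b => rw [ψ.1.commutes, ψ'.1.commutes]
      | add y y' _ _ h h' => rw [map_add, map_add, h, h']
      | mul y y' _ _ h h' => rw [map_mul, map_mul, h, h']
    · rintro ⟨⟨x0, y0⟩, hxy⟩
      have hu : IsUnit (ε x0 y0 (Polynomial.C r)) := by rw [hεC]; exact isUnit_iff_ne_zero.mpr hxy.1
      let T := Localization.Away (Polynomial.C r : B[X][X])
      let jT : T →+* L := IsLocalization.Away.lift _ (isUnit_iff_ne_zero.mpr hjr)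
      let εT : T →+* F := IsLocalization.Away.lift _ hu
      have hker : RingHom.ker jT.rangeRestrict ≤ RingHom.ker εT := fun z hz => by
        obtain ⟨⟨P, ⟨_, n, rfl⟩⟩, hP⟩ := IsLocalization.surj (Submonoid.powers (Polynomial.C r : B[X][X])) z
        have hz' : jT z = 0 := congrArg Subtype.val (RingHom.mem_ker.mp hz)
        have h1 := congrArg jT hP
        rw [map_mul, hz', zero_mul, IsLocalization.Away.lift_eq] at h1
        have h2 := congrArg εT hP
        rw [map_mul, IsLocalization.Away.lift_eq, IsLocalization.Away.lift_eq, hεpt hxy h1.symm, map_pow] at h2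
        exact RingHom.mem_ker.mpr ((mul_eq_zero.mp h2).resolve_right (pow_ne_zero _ hu.ne_zero))
      have hrange : ∀ w ∈ W, w ∈ jT.range := fun w hw => by
        obtain ⟨P, hP⟩ := hgen w hw
        refine ⟨algebraMap _ T P * IsLocalization.Away.invSelf (Polynomial.C r : B[X][X]), ?_⟩
        refine mul_right_cancel₀ hjr ?_
        rw [hP, ← IsLocalization.Away.lift_eq (S := T) (Polynomial.C r) (isUnit_iff_ne_zero.mpr hjr) (Polynomial.C r),
          ← map_mul, mul_assoc, mul_comm (IsLocalization.Away.invSelf _), IsLocalization.Away.mul_invSelf, mul_one,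
          IsLocalization.Away.lift_eq]
      have hA : ∀ z, ι z ∈ jT.range := fun z => by
        have hz : z ∈ Algebra.adjoin B (G : Set A) := hG ▸ Algebra.mem_top
        induction hz using Algebra.adjoin_induction with
        | mem z hz => exact hrange _ (Finset.mem_insert_of_mem (Finset.mem_image_of_mem _ hz))
        | algebraMap b =>
          exact ⟨algebraMap _ T (Polynomial.C (Polynomial.C b)), by rw [IsLocalization.Away.lift_eq, hjC]⟩
        | add y y' _ _ h h' => rw [map_add]; exact add_mem h h'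
        | mul y y' _ _ h h' => rw [map_mul]; exact mul_mem h h'
      obtain ⟨finv, hfinv⟩ : ∃ f : jT.range → T, Function.RightInverse f jT.rangeRestrict :=
        jT.rangeRestrict_surjective.hasRightInverse
      let ψ0 : jT.range →+* F := RingHom.liftOfRightInverse jT.rangeRestrict finv hfinv ⟨εT, hker⟩
      have hψ0 : ∀ t : T, ψ0 (jT.rangeRestrict t) = εT t := fun t =>
        RingHom.liftOfRightInverse_comp_apply _ _ _ _ t
      let ψ1 : A →+* F := ψ0.comp (ι.codRestrict jT.range hA)
      have hψB : ψ1.comp (algebraMap B A) = φ := RingHom.ext fun b => by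
        have h1 : ι.codRestrict jT.range hA (algebraMap B A b) =
            jT.rangeRestrict (algebraMap _ T (Polynomial.C (Polynomial.C b))) := Subtype.ext (by
          change ι (algebraMap B A b) = jT _
          rw [IsLocalization.Away.lift_eq, hjC])
        change ψ0 _ = _
        rw [h1, hψ0, IsLocalization.Away.lift_eq, hεC, Polynomial.map_C, Polynomial.eval_C]
      have hx0 : ψ1 xn = x0 * ψ1 xd := by
        have h1 : ι.codRestrict jT.range hA xn =
            jT.rangeRestrict (algebraMap _ T (Polynomial.C Polynomial.X)) * ι.codRestrict jT.range hA xd :=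
          Subtype.ext (by
            change ι xn = jT _ * ι xd
            rw [IsLocalization.Away.lift_eq, hjX, ← hx, div_mul_cancel₀ _ hxd'])
        change ψ0 _ = _ * ψ0 _
        rw [h1, map_mul, hψ0, IsLocalization.Away.lift_eq, hεC, Polynomial.map_X, Polynomial.eval_X]
      have hy0 : ψ1 tn = y0 * ψ1 td := by
        have h1 : ι.codRestrict jT.range hA tn =
            jT.rangeRestrict (algebraMap _ T Polynomial.X) * ι.codRestrict jT.range hA td :=
          Subtype.ext (by
            change ι tn = jT _ * ι td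
            rw [IsLocalization.Away.lift_eq, hjY, ← ht, div_mul_cancel₀ _ htd'])
        change ψ0 _ = _ * ψ0 _
        rw [h1, map_mul, hψ0, IsLocalization.Away.lift_eq]
        simp [ε, evPt]
      have ha0' : ψ1 a0 ≠ 0 := fun h0 => by
        obtain ⟨v, hv⟩ := hrange (ι a0)⁻¹ (Finset.mem_insert_self _ _)
        have h1 : ι.codRestrict jT.range hA a0 * jT.rangeRestrict v = 1 := Subtype.ext (by
          change ι a0 * jT v = 1
          rw [hv, mul_inv_cancel₀ ((map_ne_zero_iff _ hιinj).mpr ha0)])
        have h2 := congrArg ψ0 h1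
        rw [map_mul, map_one] at h2
        change ψ0 _ = 0 at h0
        rw [h0, zero_mul] at h2
        exact zero_ne_one h2
      have hψa : ψ1 a ≠ 0 := by
        have h1 : ι.codRestrict jT.range hA a1 = ι.codRestrict jT.range hA a0 ^ N *
            jT.rangeRestrict (algebraMap _ T (Polynomial.C r)) := Subtype.ext (by
          change ι a1 = ι a0 ^ N * jT _
          rw [IsLocalization.Away.lift_eq, ha1])
        have h2 : ψ1 a1 = ψ1 a0 ^ N * ε x0 y0 (Polynomial.C r) := by
          change ψ0 _ = ψ0 _ ^ N * _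
          rw [h1, map_mul, map_pow, hψ0, IsLocalization.Away.lift_eq]
        rw [map_mul, h2]
        exact mul_ne_zero ha0' (mul_ne_zero (pow_ne_zero _ ha0') hu.ne_zero)
      refine ⟨⟨⟨ψ1, hψB⟩, hψa⟩, Subtype.ext (Prod.ext ?_ ?_)⟩
      · change IsLocalization.Away.lift (S := Aa) a _ x' = x0
        refine mul_right_cancel₀ (left_ne_zero_of_mul (map_mul ψ1 xd td ▸ ha0')) ?_
        rw [← hx0, ← IsLocalization.Away.lift_eq (S := Aa) a (isUnit_iff_ne_zero.mpr hψa) xd, ← map_mul, mul_assoc,
          IsUnit.val_inv_mul, mul_one, IsLocalization.Away.lift_eq]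
      · change IsLocalization.Away.lift (S := Aa) a _ t' = y0
        refine mul_right_cancel₀ (right_ne_zero_of_mul (map_mul ψ1 xd td ▸ ha0')) ?_
        rw [← hy0, ← IsLocalization.Away.lift_eq (S := Aa) a (isUnit_iff_ne_zero.mpr hψa) td, ← map_mul, mul_assoc,
          IsUnit.val_inv_mul, mul_one, IsLocalization.Away.lift_eq]
  rw [Nat.card_eq_of_bijective _ hequiv]
  exact hcount F φ hφ

end Groth.L03.LangWeil
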