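import Groth.Agent.L11.Zeta.Induction
import Mathlib.FieldTheory.Separable
import Mathlib.RingTheory.AlgebraicIndependent.TranscendenceBasis

/-!
A regular separably generated extension is a tower of extensions of transcendence degree one.
-/

set_option autoImplicit false
universe u

open Polynomial

namespace Groth.L03.LangWeil

variable {K : Type u} [Field K] {L : Type u} [Field L] [Algebra K L]

theorem trdeg_eq {n : ℕ} {t : Fin n → L} (ht : AlgebraicIndependent K t)
    [Algebra.IsAlgebraic (IntermediateField.adjoin K (Set.range t)) L] : Algebra.trdeg K L = n := by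
  have hb : IsTranscendenceBasis K t := by
    rw [ht.isTranscendenceBasis_iff_isAlgebraic]
    exact ⟨fun z => IntermediateField.isAlgebraic_adjoin_iff.mp (Algebra.IsAlgebraic.isAlgebraic z)⟩
  have := hb.lift_cardinalMk_eq_trdeg
  simpa using this.symm

/-- Elements independent over `E` stay independent over `E(t)`, for `t` transcendental over them. -/
theorem linearIndependent_ratFunc {E : Type u} [Field E] [Algebra E L] (K₀ : IntermediateField E L) {t : L}
    (ht : Transcendental K₀ t) (φ : RatFunc E →ₐ[E] L) (hφ : φ RatFunc.X = t) {ι : Type*} {b : ι → K₀}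
    (hb : LinearIndependent E b) :
    @LinearIndependent ι (RatFunc E) L (fun i => (b i : L)) _ _ φ.toRingHom.toAlgebra.toModule := by
  classical
  letI := φ.toRingHom.toAlgebra
  letI : Algebra E[X] L := ((algebraMap (RatFunc E) L).comp (algebraMap E[X] (RatFunc E))).toAlgebra
  haveI : IsScalarTower E[X] (RatFunc E) L := IsScalarTower.of_algebraMap_eq' rfl
  have hval : ∀ q : E[X], algebraMap E[X] L q = Polynomial.aeval t q := fun q => by
    have : (φ.comp (IsScalarTower.toAlgHom E E[X] (RatFunc E))) = Polynomial.aeval t :=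
      Polynomial.algHom_ext (by simp [RatFunc.algebraMap_X, hφ])
    exact DFunLike.congr_fun this q
  refine (LinearIndependent.iff_fractionRing E[X] (RatFunc E)).mp ?_
  rw [linearIndependent_iff']
  intro T g hg i hi
  let Q : K₀[X] := ∑ j ∈ T, Polynomial.C (b j) * (g j).map (algebraMap E K₀)
  have hQ : Polynomial.aeval t Q = 0 := by
    rw [← hg, map_sum]
    refine Finset.sum_congr rfl fun j _ => ?_
    rw [map_mul, Polynomial.aeval_C, Polynomial.aeval_map_algebraMap, Algebra.smul_def, hval, mul_comm]
    rfl
  have hQ0 : Q = 0 := transcendental_iff.mp ht Q hQ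
  ext m
  have hm := congrArg (fun R : K₀[X] => R.coeff m) hQ0
  simp only [Q, Polynomial.finsetSum_coeff, Polynomial.coeff_C_mul, Polynomial.coeff_map, Polynomial.coeff_zero] at hm
  rw [Polynomial.coeff_zero]
  refine linearIndependent_iff'.mp hb T (fun j => (g j).coeff m) ?_ i hi
  rw [← hm]
  exact Finset.sum_congr rfl fun j _ => by rw [Algebra.smul_def, mul_comm]

/-- The field of elements algebraic over `K(y)` and the curve over it. -/
theorem exists_fibration [Algebra.EssFiniteType K L] {n : ℕ} {t : Fin (n + 1) → L} (ht : AlgebraicIndependent K t)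
    [Algebra.IsSeparable (IntermediateField.adjoin K (Set.range t)) L]
    (hclosed : ∀ z : L, IsIntegral K z → z ∈ Set.range (algebraMap K L)) :
    ∃ (K₀ : Type u) (_ : Field K₀) (_ : Algebra K K₀) (_ : Algebra K₀ L) (_ : IsScalarTower K K₀ L)
      (_ : Algebra (RatFunc K₀) L) (_ : IsScalarTower K₀ (RatFunc K₀) L) (y : Fin n → K₀),
      Algebra.EssFiniteType K K₀ ∧ AlgebraicIndependent K y ∧
      Algebra.IsSeparable (IntermediateField.adjoin K (Set.range y)) K₀ ∧
      (∀ z : K₀, IsIntegral K z → z ∈ Set.range (algebraMap K K₀)) ∧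
      FiniteDimensional (RatFunc K₀) L ∧ Algebra.IsSeparable (RatFunc K₀) L ∧
      (∀ z : L, IsIntegral K₀ z → z ∈ Set.range (algebraMap K₀ L)) := by
  classical
  set t0 : L := t 0
  let y' : Fin n → L := fun i => t i.succ
  let E : IntermediateField K L := IntermediateField.adjoin K (Set.range y')
  have htE : Transcendental E t0 := by
    rw [IntermediateField.transcendental_adjoin_iff]
    have := ht.transcendental_adjoin (s := Set.range Fin.succ) (i := 0) (fun ⟨j, hj⟩ => Fin.succ_ne_zero j hj)
    rw [← Set.range_comp] at this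
    exact this
  obtain ⟨K₀, hK₀⟩ : ∃ K₀ : IntermediateField E L, ∀ z, z ∈ K₀ ↔ IsAlgebraic E z :=
    ⟨algebraicClosure E L, fun z => mem_algebraicClosure_iff⟩
  haveI : Algebra.IsAlgebraic E K₀ := ⟨fun z => IntermediateField.isAlgebraic_iff.mpr ((hK₀ _).mp z.2)⟩
  haveI : IsScalarTower K K₀ L := IsScalarTower.of_algebraMap_eq fun _ => rfl
  have htK : Transcendental K₀ t0 := fun h => htE (IsAlgebraic.restrictScalars E h)
  have hs' : ∀ z ∈ Set.range t, z = t0 ∨ z ∈ Set.range (algebraMap E L) := fun z ⟨i, hi⟩ => by
    rcases Fin.eq_zero_or_eq_succ i with rfl | ⟨j, rfl⟩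
    · exact Or.inl hi.symm
    · exact Or.inr ⟨⟨z, IntermediateField.subset_adjoin K _ ⟨j, hi⟩⟩, rfl⟩
  obtain ⟨φE, hφE, hfdE, hsepE⟩ := Groth.L11.Zeta.ratFunc_setup (k := K) E t0 htE (Set.range t) hs'
  haveI hfin : FiniteDimensional E K₀ := Groth.L11.Zeta.finiteDimensional_closure K₀ t0 htK φE hφE hfdE
  have hsep0 : Algebra.IsSeparable E K₀ := ⟨fun z => by
    letI := φE.toRingHom.toAlgebra
    haveI := hfdE
    haveI := hsepE
    have hz : IsIntegral E z := IsIntegral.of_finite E z
    have hpow : LinearIndependent E fun i : Fin (minpoly E z).natDegree => z ^ (i : ℕ) := linearIndependent_pow z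
    have h1 : LinearIndependent (RatFunc E) fun i : Fin (minpoly E z).natDegree => (z : L) ^ (i : ℕ) := by
      have := linearIndependent_ratFunc K₀ htK φE hφE hpow
      simpa using this
    set m' := minpoly (RatFunc E) (z : L)
    have hint : IsIntegral (RatFunc E) (z : L) := IsIntegral.of_finite _ _
    have hroot : Polynomial.aeval (z : L) ((minpoly E z).map (algebraMap E (RatFunc E))) = 0 := by
      rw [Polynomial.aeval_map_algebraMap]
      change Polynomial.aeval (algebraMap K₀ L z) (minpoly E z) = 0
      rw [Polynomial.aeval_algebraMap_apply, minpoly.aeval, map_zero]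
    have hle : (minpoly E z).natDegree ≤ m'.natDegree := by
      by_contra! hlt
      have h0 := minpoly.aeval (RatFunc E) (z : L)
      rw [Polynomial.aeval_eq_sum_range' hlt, ← Fin.sum_univ_eq_sum_range (fun i => m'.coeff i • (z : L) ^ i)] at h0
      have := Fintype.linearIndependent_iff.mp h1 (fun i => m'.coeff i) h0 ⟨m'.natDegree, hlt⟩
      rw [show m'.coeff m'.natDegree = 1 from (minpoly.monic hint).coeff_natDegree] at this
      exact one_ne_zero this
    have heq : (minpoly E z).map (algebraMap E (RatFunc E)) = m' :=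
      Polynomial.eq_of_monic_of_dvd_of_natDegree_le (minpoly.monic hint) ((minpoly.monic hz).map _)
        (minpoly.dvd _ _ hroot) (by rw [(minpoly.monic hz).natDegree_map]; exact hle)
    have hs : m'.Separable := Algebra.IsSeparable.isSeparable (RatFunc E) (z : L)
    rw [← heq, Polynomial.separable_map] at hs
    exact hs⟩
  haveI : Algebra.EssFiniteType K E :=
    IntermediateField.essFiniteType_iff.mpr (IntermediateField.fg_adjoin_of_finite (Set.finite_range y'))
  haveI : Algebra.EssFiniteType K K₀ := Algebra.EssFiniteType.comp K E K₀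
  obtain ⟨φ, -, hfd, hsp⟩ := Groth.L11.Zeta.ratFunc_setup (k := K) K₀ t0 htK (Set.range t)
    fun z hz => (hs' z hz).imp id fun ⟨c, hc⟩ => ⟨algebraMap E K₀ c, hc⟩
  let y : Fin n → K₀ := fun i => algebraMap E K₀ ⟨y' i, IntermediateField.subset_adjoin K _ (Set.mem_range_self i)⟩
  refine ⟨K₀, inferInstance, inferInstance, inferInstance, inferInstance, φ.toRingHom.toAlgebra,
    @IsScalarTower.of_algebraMap_eq _ _ _ _ _ _ _ φ.toRingHom.toAlgebra _ (fun c => (φ.commutes c).symm), y,
    inferInstance, ?_, ?_, fun z hz => ?_, hfd, hsp, fun z hz =>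
      ⟨⟨z, (hK₀ z).mpr (IsAlgebraic.restrictScalars E hz.isAlgebraic)⟩, rfl⟩⟩
  · exact AlgebraicIndependent.of_comp (IsScalarTower.toAlgHom K K₀ L) (ht.comp _ (Fin.succ_injective n))
  · let f : E →ₐ[K] K₀ := IsScalarTower.toAlgHom K E K₀
    have hr : f.fieldRange = IntermediateField.adjoin K (Set.range y) := by
      refine (IntermediateField.map_injective (IsScalarTower.toAlgHom K K₀ L)) ?_
      rw [IntermediateField.adjoin_map, ← Set.range_comp, AlgHom.fieldRange_eq_map, IntermediateField.map_map]
      change (⊤ : IntermediateField K E).map E.val = E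
      rw [← AlgHom.fieldRange_eq_map, IntermediateField.fieldRange_val]
    let e : E ≃+* IntermediateField.adjoin K (Set.range y) :=
      ((AlgEquiv.ofInjectiveField f).trans (IntermediateField.equivOfEq hr)).toRingEquiv
    haveI := hsep0
    exact Algebra.IsSeparable.of_equiv_equiv e (RingEquiv.refl K₀) (by ext z; rfl)
  · obtain ⟨c, hc⟩ := hclosed (algebraMap K₀ L z) (hz.map (IsScalarTower.toAlgHom K K₀ L))
    exact ⟨c, (algebraMap K₀ L).injective (by rw [← IsScalarTower.algebraMap_apply, hc])⟩

end Groth.L03.LangWeil
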