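import Groth.Agent.L03.LangWeil.Model

/-!
The uniform estimate for regular extensions.
-/

set_option autoImplicit false
universe u

open Polynomial

namespace Groth.L03.LangWeil

variable {R : Type u} [CommRing R] [IsDomain R]

theorem est_bot {K : Type u} [Field K] [Algebra R K] [IsFractionRing R K] {L : Type u} [Field L] [Algebra K L]
    [Algebra R L] [IsScalarTower R K L] : Est R (⊥ : Subalgebra R L) 0 := by
  have hinj : Function.Injective (algebraMap R L) := by
    rw [IsScalarTower.algebraMap_eq R K L]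
    exact (algebraMap K L).injective.comp (IsFractionRing.injective R K)
  refine ⟨1, one_ne_zero, 0, fun F _ _ φ _ => ?_⟩
  have h1 : Nat.card (Over φ (⊥ : Subalgebra R L)) = 1 := by
    rw [Nat.card_eq_one_iff_unique]
    refine ⟨⟨fun ψ ψ' => Subtype.ext (RingHom.ext fun z => ?_)⟩,
      ⟨⟨φ.comp (Algebra.botEquivOfInjective hinj).toRingEquiv.toRingHom, RingHom.ext fun b => ?_⟩⟩⟩
    · obtain ⟨c, hc⟩ := Algebra.mem_bot.mp z.2
      rw [show z = algebraMap R (⊥ : Subalgebra R L) c from Subtype.ext hc.symm, ψ.commutes, ψ'.commutes]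
    · simp
  simp [h1]

/-- A model of a regular separably generated extension has `q ^ n + O(q ^ n / √q)` points. -/
theorem est_of_regular (n : ℕ) : ∀ {K : Type u} [Field K] [Algebra R K] [IsFractionRing R K] {L : Type u} [Field L]
    [Algebra K L] [Algebra R L] [IsScalarTower R K L] [Algebra.EssFiniteType K L] (t : Fin n → L)
    (_ : AlgebraicIndependent K t) [Algebra.IsSeparable (IntermediateField.adjoin K (Set.range t)) L]
    (_ : ∀ z : L, IsIntegral K z → z ∈ Set.range (algebraMap K L)) (A : Subalgebra R L), A.FG → GenOver A →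
    Est R A n := by
  induction n with
  | zero =>
    intro K _ _ _ L _ _ _ _ _ t ht _ hclosed A hA hgen
    have halg : Algebra.IsAlgebraic (IntermediateField.adjoin K (Set.range t)) L := inferInstance
    have htr := trdeg_eq ht
    refine est_change hA Subalgebra.fg_bot hgen (fun z => ?_) htr (est_bot (K := K))
    haveI : Algebra.IsAlgebraic K L := by
      rw [Set.range_eq_empty t, IntermediateField.adjoin_empty] at halg
      haveI := halg
      haveI : Algebra.IsAlgebraic K (⊥ : IntermediateField K L) := Algebra.IsAlgebraic.of_finite _ _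
      exact Algebra.IsAlgebraic.trans K (⊥ : IntermediateField K L) L
    obtain ⟨c, rfl⟩ := hclosed z (Algebra.IsAlgebraic.isAlgebraic (R := K) z).isIntegral
    obtain ⟨a, b, hb, h⟩ := IsFractionRing.div_surjective (A := R) c
    refine ⟨_, Subalgebra.algebraMap_mem _ a, _, Subalgebra.algebraMap_mem _ b, ?_, ?_⟩
    · rw [IsScalarTower.algebraMap_apply R K L]
      exact (_root_.map_ne_zero _).mpr
        ((map_ne_zero_iff _ (IsFractionRing.injective R K)).mpr (nonZeroDivisors.ne_zero hb))
    · rw [← h, map_div₀, ← IsScalarTower.algebraMap_apply, ← IsScalarTower.algebraMap_apply]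
  | succ n ih =>
    intro K _ _ _ L _ _ _ _ _ t ht _ hclosed A hA hgen
    classical
    have htr := trdeg_eq ht
    obtain ⟨K₀, _, _, _, _, _, _, y, hfg, hy, hysep, hclosed₀, hfd, hsep, hclosed'⟩ := exists_fibration ht hclosed
    letI : Algebra R K₀ := ((algebraMap K K₀).comp (algebraMap R K)).toAlgebra
    haveI : IsScalarTower R K K₀ := IsScalarTower.of_algebraMap_eq' rfl
    haveI : IsScalarTower R K₀ L := IsScalarTower.of_algebraMap_eq fun r => by
      rw [IsScalarTower.algebraMap_apply R K K₀, ← IsScalarTower.algebraMap_apply K K₀ L,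
        ← IsScalarTower.algebraMap_apply R K L]
    obtain ⟨B, hB, hgenB⟩ := exists_modelOver (R := R) (K := K) (L := K₀)
    haveI := hysep
    have hestB := ih y hy hclosed₀ B hB hgenB
    have htrB := trdeg_eq hy
    let jB : K₀ →ₐ[R] L := IsScalarTower.toAlgHom R K₀ L
    let A' : Subalgebra R L := A ⊔ B.map jB
    have hA' : A'.FG := hA.sup (hB.map jB)
    have hle : A ≤ A' := le_sup_left
    refine (est_iff_of_le hA hA' hgen hle htr).mpr ?_
    haveI : Algebra.FiniteType R A' := (Subalgebra.fg_iff_finiteType _).mp hA'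
    haveI : Algebra.FiniteType R B := (Subalgebra.fg_iff_finiteType _).mp hB
    haveI := hgenB.isFractionRing
    haveI := (hgen.mono hle).isFractionRing
    let iB : B →ₐ[R] A' := (Subalgebra.inclusion (le_sup_right : B.map jB ≤ A')).comp
      ((jB.comp B.val).codRestrict (B.map jB) fun b => ⟨b, b.2, rfl⟩)
    letI : Algebra B A' := iB.toRingHom.toAlgebra
    haveI : IsScalarTower R B A' := IsScalarTower.of_algebraMap_eq fun r => (iB.commutes r).symm
    haveI : Algebra.FiniteType B A' := Algebra.FiniteType.of_restrictScalars_finiteType R B A'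
    obtain ⟨a, ha, D, hD, C₃, h₃⟩ := exists_curve_family (B := B) (A := A') (K₀ := K₀) (L := L) hclosed' (fun _ => rfl)
    set a' := a * algebraMap B A' D
    have hDA : algebraMap B A' D ≠ 0 := fun h => hD (Subtype.ext ((algebraMap K₀ L).injective (by
      rw [show algebraMap K₀ L (D : K₀) = ((algebraMap B A' D : A') : L) from rfl, h]
      simp)))
    have ha' : a' ≠ 0 := mul_ne_zero ha hDA
    obtain ⟨f₁, hf₁, C₁, h₁⟩ := hestB
    obtain ⟨f₂, hf₂, C₂, h₂⟩ :=
      exists_card_over_mul_le (R := R) (B ⧸ Ideal.span {D}) (genFibre_quotient_lt hB hgenB htrB hD)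
    obtain ⟨f₄, hf₄, C₄, h₄⟩ :=
      exists_card_over_mul_le (R := R) (A' ⧸ Ideal.span {a'}) (genFibre_quotient_lt hA' (hgen.mono hle) htr ha')
    refine ⟨f₁ * f₂ * f₄, mul_ne_zero (mul_ne_zero hf₁ hf₂) hf₄, (1 + C₁) * C₃ + (C₁ + C₂) + C₄, fun F _ _ φ hφ => ?_⟩
    rw [map_mul, map_mul] at hφ
    haveI := finite_over φ B
    haveI := finite_over φ A'
    haveI := Fintype.ofFinite {b : Over φ B // b.1 D ≠ 0}
    have hsig : Nat.card {ψ : Over φ A' // ψ.1 a' ≠ 0} =
        ∑ b : {b : Over φ B // b.1 D ≠ 0}, Nat.card {χ : Over b.1.1 A' // χ.1 a ≠ 0} := by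
      haveI : ∀ b : {b : Over φ B // b.1 D ≠ 0}, Finite (Over b.1.1 A') := fun b => finite_over b.1.1 A'
      rw [← Nat.card_sigma]
      refine Nat.card_congr
        { toFun := fun ψ => ⟨⟨⟨ψ.1.1.comp (algebraMap B A'), RingHom.ext fun r => by
              rw [RingHom.comp_apply, RingHom.comp_apply, ← IsScalarTower.algebraMap_apply]
              exact ψ.1.commutes r⟩, right_ne_zero_of_mul (fun h => ψ.2 ((map_mul ψ.1.1 a (algebraMap B A' D)).trans h))⟩,
            ⟨ψ.1.1, rfl⟩, left_ne_zero_of_mul (fun h => ψ.2 ((map_mul ψ.1.1 a (algebraMap B A' D)).trans h))⟩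
          invFun := fun z => ⟨⟨z.2.1.1, RingHom.ext fun r => by
              rw [RingHom.comp_apply, IsScalarTower.algebraMap_apply R B A', z.2.1.commutes]
              exact z.1.1.commutes r⟩, by
            change z.2.1.1 (a * algebraMap B A' D) ≠ 0
            rw [map_mul, z.2.1.commutes]
            exact mul_ne_zero z.2.2 z.1.2⟩
          left_inv := fun ψ => rfl
          right_inv := fun ⟨⟨⟨b, hb⟩, hbD⟩, ⟨⟨χ, hχ⟩, hχa⟩⟩ => by
            change χ.comp (algebraMap B A') = b at hχ
            subst hχ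
            rfl }
    set q : ℝ := (Nat.card F : ℝ) with hqdef
    set S := Real.sqrt q
    set T : ℝ := (Nat.card {ψ : Over φ A' // ψ.1 a' ≠ 0} : ℝ)
    set nB : ℝ := (Nat.card {b : Over φ B // b.1 D ≠ 0} : ℝ) with hnB
    have hS0 : 0 ≤ S := Real.sqrt_nonneg _
    have hq1 : 1 ≤ q := by rw [hqdef]; exact_mod_cast Nat.card_pos
    have hS1 : 1 ≤ S := Real.one_le_sqrt.mpr hq1
    have hSS : S * S = q := Real.mul_self_sqrt (zero_le_one.trans hq1)
    have hSq : S ≤ q := sqrt_card_le
    have hqn : (0 : ℝ) ≤ q ^ n := pow_nonneg (zero_le_one.trans hq1) n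
    have e1 := h₁ F φ (left_ne_zero_of_mul (left_ne_zero_of_mul hφ))
    have e2 : (Nat.card (Over φ (B ⧸ Ideal.span {D})) : ℝ) * q ≤ C₂ * q ^ n := by
      rw [hqdef]; exact_mod_cast h₂ F φ (right_ne_zero_of_mul (left_ne_zero_of_mul hφ))
    have e4 : (Nat.card (Over φ (A' ⧸ Ideal.span {a'})) : ℝ) * q ≤ C₄ * q ^ (n + 1) := by
      rw [hqdef]; exact_mod_cast h₄ F φ (right_ne_zero_of_mul hφ)
    rw [card_over_eq_add φ B D] at e1
    push_cast at e1
    set bB : ℝ := (Nat.card (Over φ (B ⧸ Ideal.span {D})) : ℝ)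
    have hbB : 0 ≤ bB := Nat.cast_nonneg _
    have hnBq : |nB - q ^ n| * S ≤ (C₁ + C₂) * q ^ n := by
      have h : |nB - q ^ n| ≤ |nB + bB - q ^ n| + bB := by
        rw [show nB - q ^ n = (nB + bB - q ^ n) - bB by ring]
        refine (abs_sub _ _).trans ?_
        rw [abs_of_nonneg hbB]
      refine (mul_le_mul_of_nonneg_right h hS0).trans ?_
      rw [add_mul, add_mul]
      exact add_le_add e1 ((mul_le_mul_of_nonneg_left hSq hbB).trans e2)
    have hnB_le : nB ≤ (1 + C₁) * q ^ n := by
      have h : |nB + bB - q ^ n| ≤ C₁ * q ^ n := (le_mul_of_one_le_right (abs_nonneg _) hS1).trans e1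
      rw [add_mul, one_mul]
      linarith [le_abs_self (nB + bB - q ^ n)]
    have hTB : |T - nB * q| ≤ nB * (C₃ * S) := by
      have : T - nB * q = ∑ b : {b : Over φ B // b.1 D ≠ 0}, ((Nat.card {χ : Over b.1.1 A' // χ.1 a ≠ 0} : ℝ) - q) := by
        rw [Finset.sum_sub_distrib, Finset.sum_const, nsmul_eq_mul, Finset.card_univ, ← Nat.card_eq_fintype_card, ← hnB]
        simp only [T, hsig, Nat.cast_sum]
      rw [this]
      refine (Finset.abs_sum_le_sum_abs _ _).trans ((Finset.sum_le_sum fun b _ => h₃ F b.1.1 b.2).trans (le_of_eq ?_))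
      rw [Finset.sum_const, nsmul_eq_mul, Finset.card_univ, ← Nat.card_eq_fintype_card, ← hnB]
    rw [card_over_eq_add φ A' a']
    push_cast
    set bA : ℝ := (Nat.card (Over φ (A' ⧸ Ideal.span {a'})) : ℝ)
    have hbA : 0 ≤ bA := Nat.cast_nonneg _
    have h : |T + bA - q ^ (n + 1)| ≤ |T - nB * q| + |nB - q ^ n| * q + bA := by
      rw [show T + bA - q ^ (n + 1) = (T - nB * q) + (nB - q ^ n) * q + bA by rw [pow_succ]; ring]
      refine (abs_add_three _ _ _).trans ?_
      rw [abs_mul, abs_of_nonneg (zero_le_one.trans hq1), abs_of_nonneg hbA]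
    refine (mul_le_mul_of_nonneg_right h hS0).trans ?_
    rw [add_mul, add_mul, add_mul, add_mul]
    refine add_le_add (add_le_add ?_ ?_) ((mul_le_mul_of_nonneg_left hSq hbA).trans e4)
    · refine (mul_le_mul_of_nonneg_right hTB hS0).trans ?_
      rw [show nB * (C₃ * S) * S = nB * (C₃ * q) by rw [← hSS]; ring]
      refine (mul_le_mul_of_nonneg_right hnB_le (by positivity)).trans (le_of_eq ?_)
      rw [pow_succ]; ring
    · rw [mul_right_comm]
      refine (mul_le_mul_of_nonneg_right hnBq (zero_le_one.trans hq1)).trans (le_of_eq ?_)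
      rw [pow_succ]; ring

end Groth.L03.LangWeil
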