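import Groth.Agent.L03.LangWeil.Upper
import Groth.Agent.L03.LangWeil.Field
import Mathlib.RingTheory.KrullDimension.NonZeroDivisors
import Mathlib.RingTheory.Localization.LocalizationLocalization
import Mathlib.Analysis.Real.Sqrt

/-!
Models of a field over a base domain, and the estimate for the number of their points.
-/

set_option autoImplicit false
universe u

open Polynomial

namespace Groth.L03.LangWeil

variable {R : Type u} [CommRing R]

/-- The estimate `q ^ r + O(q ^ r / √q)` for the number of points over the good part of the base. -/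
def Est (R : Type u) [CommRing R] (A : Type u) [CommRing A] [Algebra R A] (r : ℕ) : Prop :=
  ∃ f : R, f ≠ 0 ∧ ∃ C : ℕ, ∀ (F : Type u) [Field F] [Finite F] (φ : R →+* F), φ f ≠ 0 →
    |(Nat.card (Over φ A) : ℝ) - (Nat.card F : ℝ) ^ r| * Real.sqrt (Nat.card F) ≤ C * (Nat.card F : ℝ) ^ r

/-- Splitting the points by an element. -/
theorem card_over_eq_add {F : Type u} [Field F] [Finite F] (φ : R →+* F) (A : Type u) [CommRing A] [Algebra R A]
    [Algebra.FiniteType R A] (a : A) : Nat.card (Over φ A) =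
      Nat.card {ψ : Over φ A // ψ.1 a ≠ 0} + Nat.card (Over φ (A ⧸ Ideal.span {a})) := by
  classical
  haveI := finite_over φ A
  rw [← Nat.card_congr (Equiv.sumCompl fun ψ : Over φ A => ψ.1 a ≠ 0), Nat.card_sum]
  congr 1
  refine Nat.card_congr
    { toFun := fun ψ => ⟨Ideal.Quotient.lift _ ψ.1.1 fun x hx => by
        obtain ⟨c, rfl⟩ := Ideal.mem_span_singleton'.mp hx
        rw [map_mul, not_not.mp ψ.2, mul_zero], RingHom.ext fun b => ψ.1.commutes b⟩
      invFun := fun χ => ⟨⟨χ.1.comp (Ideal.Quotient.mk _), RingHom.ext fun b => χ.commutes b⟩, by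
        rw [not_not, RingHom.comp_apply, Ideal.Quotient.eq_zero_iff_mem.mpr (Ideal.mem_span_singleton_self a), map_zero]⟩
      left_inv := fun ψ => Subtype.ext (Subtype.ext (RingHom.ext fun x => rfl))
      right_inv := fun χ => Subtype.ext (Ideal.Quotient.ringHom_ext (RingHom.ext fun x => rfl)) }

variable [IsDomain R] {K : Type u} [Field K] [Algebra R K] [IsFractionRing R K] {L : Type u} [Field L] [Algebra K L]
  [Algebra R L] [IsScalarTower R K L]

/-- Every element is a quotient of elements of the subalgebra. -/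
def GenOver (A : Subalgebra R L) : Prop := ∀ z : L, ∃ a ∈ A, ∃ b ∈ A, b ≠ 0 ∧ z = a / b

omit [IsDomain R] in
theorem GenOver.isFractionRing {A : Subalgebra R L} (h : GenOver A) : IsFractionRing A L :=
  IsFractionRing.of_field A L fun z => by
    obtain ⟨a, ha, b, hb, -, hz⟩ := h z
    exact ⟨⟨a, ha⟩, ⟨b, hb⟩, hz⟩

omit [IsDomain R] in
theorem GenOver.mono {A A' : Subalgebra R L} (h : GenOver A) (hle : A ≤ A') : GenOver A' := fun z => by
  obtain ⟨a, ha, b, hb, hb0, hz⟩ := h z
  exact ⟨a, hle ha, b, hle hb, hb0, hz⟩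

theorem exists_modelOver [Algebra.EssFiniteType K L] : ∃ A : Subalgebra R L, A.FG ∧ GenOver A := by
  classical
  obtain ⟨S, hS⟩ := IntermediateField.fg_top K L
  set A : Subalgebra R L := Algebra.adjoin R (S : Set L)
  refine ⟨A, Subalgebra.fg_adjoin_finset S, fun z => ?_⟩
  have hz : z ∈ IntermediateField.adjoin K (S : Set L) := hS ▸ IntermediateField.mem_top
  induction hz using IntermediateField.adjoin_induction with
  | mem x hx => exact ⟨x, Algebra.subset_adjoin hx, 1, A.one_mem, one_ne_zero, (div_one x).symm⟩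
  | algebraMap c =>
    obtain ⟨a, b, hb, h⟩ := IsFractionRing.div_surjective (A := R) c
    have hb' : algebraMap R L b ≠ 0 := by
      rw [IsScalarTower.algebraMap_apply R K L]
      exact (_root_.map_ne_zero _).mpr ((map_ne_zero_iff _ (IsFractionRing.injective R K)).mpr (nonZeroDivisors.ne_zero hb))
    exact ⟨_, A.algebraMap_mem a, _, A.algebraMap_mem b, hb', by
      rw [← h, map_div₀, ← IsScalarTower.algebraMap_apply, ← IsScalarTower.algebraMap_apply]⟩
  | add x y _ _ h h' =>
    obtain ⟨a, ha, b, hb, hb0, rfl⟩ := h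
    obtain ⟨a', ha', b', hb', hb0', rfl⟩ := h'
    exact ⟨a * b' + b * a', A.add_mem (A.mul_mem ha hb') (A.mul_mem hb ha'), b * b', A.mul_mem hb hb',
      mul_ne_zero hb0 hb0', div_add_div _ _ hb0 hb0'⟩
  | inv x _ h =>
    obtain ⟨a, ha, b, hb, hb0, rfl⟩ := h
    by_cases ha0 : a = 0
    · subst ha0
      exact ⟨0, A.zero_mem, 1, A.one_mem, one_ne_zero, by simp⟩
    · exact ⟨b, hb, a, ha, ha0, inv_div a b⟩
  | mul x y _ _ h h' =>
    obtain ⟨a, ha, b, hb, hb0, rfl⟩ := h
    obtain ⟨a', ha', b', hb', hb0', rfl⟩ := h'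
    exact ⟨a * a', A.mul_mem ha ha', b * b', A.mul_mem hb hb', mul_ne_zero hb0 hb0', div_mul_div_comm a b a' b'⟩

omit [IsDomain R] in
/-- The generic fibre of a hypersurface is a quotient of the generic fibre. -/
theorem exists_genFibre_surjection {A : Type u} [CommRing A] [Algebra R A] (a : A) :
    ∃ π : genFibre R A →+* genFibre R (A ⧸ Ideal.span {a}),
      Function.Surjective π ∧ π (algebraMap A (genFibre R A) a) = 0 := by
  have hT : Algebra.algebraMapSubmonoid A (nonZeroDivisors R) ≤
      (Algebra.algebraMapSubmonoid (A ⧸ Ideal.span {a}) (nonZeroDivisors R)).comap (Ideal.Quotient.mk (Ideal.span {a})) := by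
    rintro _ ⟨r, hr, rfl⟩; exact ⟨r, hr, rfl⟩
  refine ⟨IsLocalization.map (genFibre R (A ⧸ Ideal.span {a})) (Ideal.Quotient.mk (Ideal.span {a})) hT, fun b => ?_, ?_⟩
  · obtain ⟨⟨c, ⟨_, r, hr, rfl⟩⟩, h⟩ := IsLocalization.surj (Algebra.algebraMapSubmonoid (A ⧸ Ideal.span {a}) (nonZeroDivisors R)) b
    obtain ⟨c, rfl⟩ := Ideal.Quotient.mk_surjective c
    refine ⟨IsLocalization.mk' (genFibre R A) c (⟨_, r, hr, rfl⟩ : Algebra.algebraMapSubmonoid A (nonZeroDivisors R)), ?_⟩
    rw [IsLocalization.map_mk', IsLocalization.mk'_eq_iff_eq_mul]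
    exact h.symm
  · rw [IsLocalization.map_eq, Ideal.Quotient.eq_zero_iff_mem.mpr (Ideal.mem_span_singleton_self a), map_zero]

/-- The locus of a non-zero element in a model has dimension less than the transcendence degree. -/
theorem genFibre_quotient_lt {A : Subalgebra R L} (hA : A.FG) (hgen : GenOver A) {r : ℕ}
    (hr : Algebra.trdeg K L = r) {a : A} (ha : a ≠ 0) :
    ringKrullDim (genFibre R (A ⧸ Ideal.span {a})) < r := by
  classical
  haveI : Algebra.FiniteType R A := (Subalgebra.fg_iff_finiteType _).mp hA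
  haveI := hgen.isFractionRing
  let M := Algebra.algebraMapSubmonoid A (nonZeroDivisors R)
  let G := genFibre R A
  have hRL : Function.Injective (algebraMap R L) := by
    rw [IsScalarTower.algebraMap_eq R K L]
    exact (algebraMap K L).injective.comp (IsFractionRing.injective R K)
  have hM : M ≤ nonZeroDivisors A := by
    rintro _ ⟨r, hr, rfl⟩
    exact mem_nonZeroDivisors_of_ne_zero fun h => nonZeroDivisors.ne_zero hr (hRL (by
      rw [map_zero]; exact congrArg Subtype.val h))
  haveI : IsDomain G := IsLocalization.isDomain_localization hM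
  let jK : K →+* G := IsLocalization.lift (M := nonZeroDivisors R) (g := (algebraMap A G).comp (algebraMap R A))
    fun r => IsLocalization.map_units G (⟨_, r.1, r.2, rfl⟩ : M)
  letI : Algebra K G := jK.toAlgebra
  let jL : G →+* L := IsLocalization.lift (M := M) (g := algebraMap A L) fun m =>
    isUnit_iff_ne_zero.mpr ((map_ne_zero_iff _ (IsFractionRing.injective A L)).mpr (nonZeroDivisors.ne_zero (hM m.2)))
  letI : Algebra G L := jL.toAlgebra
  haveI : IsScalarTower A G L := IsScalarTower.of_algebraMap_eq fun z => (IsLocalization.lift_eq _ z).symm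
  haveI : IsFractionRing G L := IsFractionRing.isFractionRing_of_isDomain_of_isLocalization M G L
  have hjK : ∀ r : R, algebraMap K G (algebraMap R K r) = algebraMap A G (algebraMap R A r) := fun r =>
    IsLocalization.lift_eq _ r
  haveI : IsScalarTower K G L := IsScalarTower.of_algebraMap_eq' (IsLocalization.ringHom_ext (nonZeroDivisors R)
    (RingHom.ext fun r => by
      simp only [RingHom.comp_apply]
      rw [hjK, ← IsScalarTower.algebraMap_apply A G L, ← IsScalarTower.algebraMap_apply R K L]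
      rfl))
  obtain ⟨G0, hG0⟩ := (Algebra.FiniteType.out : (⊤ : Subalgebra R A).FG)
  haveI : Algebra.FiniteType K G := ⟨⟨G0.image (algebraMap A G), by
    refine eq_top_iff.mpr fun b _ => ?_
    obtain ⟨⟨a, ⟨_, r, hr, rfl⟩⟩, h⟩ := IsLocalization.surj M b
    have hall : ∀ z ∈ Algebra.adjoin R (G0 : Set A),
        algebraMap A G z ∈ Algebra.adjoin K (↑(G0.image (algebraMap A G)) : Set G) := fun z hz => by
      induction hz using Algebra.adjoin_induction with
      | mem z hz => exact Algebra.subset_adjoin (Finset.mem_image_of_mem _ hz)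
      | algebraMap b => rw [← hjK]; exact Subalgebra.algebraMap_mem _ _
      | add y y' _ _ hy hy' => rw [map_add]; exact add_mem hy hy'
      | mul y y' _ _ hy hy' => rw [map_mul]; exact mul_mem hy hy'
    have hb : b = algebraMap K G (algebraMap R K r)⁻¹ * algebraMap A G a := by
      rw [← h, mul_comm b, ← mul_assoc, ← hjK, ← map_mul, inv_mul_cancel₀, map_one, one_mul]
      exact (map_ne_zero_iff _ (IsFractionRing.injective R K)).mpr (nonZeroDivisors.ne_zero hr)
    rw [hb]
    exact mul_mem (Subalgebra.algebraMap_mem _ _) (hall a (hG0 ▸ Algebra.mem_top))⟩⟩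
  obtain ⟨d, -, -, -, hd, -⟩ := Groth.L22.AffineDim.exists_normalization K G
  have hdr : d = r := by
    have := (Groth.L22.AffineDim.trdeg_fractionRing K G L hd).symm.trans hr
    exact_mod_cast this
  subst hdr
  obtain ⟨π, hπ, h0⟩ := exists_genFibre_surjection (R := R) a
  let G' := genFibre R (A ⧸ Ideal.span {a})
  have h1 : ringKrullDim G' + 1 ≤ ringKrullDim G := ringKrullDim_succ_le_of_surjective π hπ
    (mem_nonZeroDivisors_of_ne_zero ((map_ne_zero_iff _ (IsLocalization.injective G hM)).mpr ha)) h0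
  rw [hd] at h1
  change ringKrullDim G' < _
  by_contra hlt
  have h2 := (add_le_add (not_lt.mp hlt) (le_refl (1 : WithBot ℕ∞))).trans h1
  norm_cast at h2
  omega

theorem sqrt_card_le {F : Type u} [Field F] [Finite F] : Real.sqrt (Nat.card F : ℝ) ≤ Nat.card F := by
  have h1 : (1 : ℝ) ≤ Nat.card F := by exact_mod_cast Nat.card_pos
  exact Real.sqrt_le_iff.mpr ⟨by linarith, by nlinarith⟩

/-- An element of a larger model times a power of a fixed element lies in the smaller one. -/
theorem exists_clearing {A A' : Subalgebra R L} (hA' : A'.FG) (hgen : GenOver A) (hle : A ≤ A') :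
    ∃ a : A, a ≠ 0 ∧ ∀ z ∈ A', ∃ N : ℕ, (a : L) ^ N * z ∈ A := by
  classical
  obtain ⟨S, hS⟩ := hA'
  choose num hnum den hden hden0 hfrac using hgen
  set d : L := ∏ z ∈ S, den z
  have hd : d ∈ A := Subalgebra.prod_mem _ fun z _ => hden z
  have hd0 : d ≠ 0 := Finset.prod_ne_zero_iff.mpr fun z _ => hden0 z
  refine ⟨⟨d, hd⟩, fun h => hd0 (congrArg Subtype.val h), fun z hz => ?_⟩
  rw [← hS] at hz
  induction hz using Algebra.adjoin_induction with
  | mem z hz =>
    refine ⟨1, ?_⟩
    change d ^ 1 * z ∈ A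
    rw [pow_one]
    simp only [d]
    rw [← Finset.mul_prod_erase S den hz, mul_comm (den z), mul_assoc]
    have hz' : den z * z = num z := by
      have := hfrac z
      rw [eq_div_iff (hden0 z)] at this
      rw [mul_comm]; exact this
    rw [hz']
    exact A.mul_mem (Subalgebra.prod_mem _ fun z _ => hden z) (hnum z)
  | algebraMap b => exact ⟨0, by rw [pow_zero, one_mul]; exact A.algebraMap_mem b⟩
  | add y y' _ _ hy hy' =>
    obtain ⟨N, hN⟩ := hy
    obtain ⟨N', hN'⟩ := hy'
    refine ⟨N + N', ?_⟩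
    change d ^ (N + N') * (y + y') ∈ A
    rw [show d ^ (N + N') * (y + y') = d ^ N' * (d ^ N * y) + d ^ N * (d ^ N' * y') by rw [pow_add]; ring]
    exact A.add_mem (A.mul_mem (Subalgebra.pow_mem _ hd _) hN) (A.mul_mem (Subalgebra.pow_mem _ hd _) hN')
  | mul y y' _ _ hy hy' =>
    obtain ⟨N, hN⟩ := hy
    obtain ⟨N', hN'⟩ := hy'
    refine ⟨N + N', ?_⟩
    change d ^ (N + N') * (y * y') ∈ A
    rw [show d ^ (N + N') * (y * y') = (d ^ N * y) * (d ^ N' * y') by rw [pow_add]; ring]
    exact A.mul_mem hN hN'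

/-- Enlarging the model does not change the points away from an element. -/
theorem card_over_away_eq {A A' : Subalgebra R L} (hgen : GenOver A) (hle : A ≤ A') {a : A}
    (ha : ∀ z ∈ A', ∃ N : ℕ, (a : L) ^ N * z ∈ A) {F : Type u} [Field F] (φ : R →+* F) :
    Nat.card {ψ : Over φ A // ψ.1 a ≠ 0} =
      Nat.card {ψ : Over φ A' // ψ.1 (Subalgebra.inclusion hle a) ≠ 0} := by
  classical
  symm
  let res : {ψ : Over φ A' // ψ.1 (Subalgebra.inclusion hle a) ≠ 0} → {ψ : Over φ A // ψ.1 a ≠ 0} := fun ψ =>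
    ⟨⟨ψ.1.1.comp (Subalgebra.inclusion hle).toRingHom, RingHom.ext fun b => by
      simpa using ψ.1.commutes b⟩, ψ.2⟩
  choose N hN using ha
  have hkey : ∀ (ψ : {ψ : Over φ A' // ψ.1 (Subalgebra.inclusion hle a) ≠ 0}) (z : A'),
      (res ψ).1.1 a ^ N z.1 z.2 * ψ.1.1 z = (res ψ).1.1 ⟨_, hN z.1 z.2⟩ := fun ψ z => by
    change ψ.1.1 (Subalgebra.inclusion hle a) ^ N z.1 z.2 * ψ.1.1 z = ψ.1.1 (Subalgebra.inclusion hle ⟨_, hN z.1 z.2⟩)
    rw [← map_pow, ← map_mul]
    exact congrArg ψ.1.1 (Subtype.ext (by simp [Subalgebra.inclusion]))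
  refine Nat.card_eq_of_bijective res ⟨fun ψ ψ' h => Subtype.ext (Subtype.ext (RingHom.ext fun z => ?_)), fun χ => ?_⟩
  · have h1 := hkey ψ z
    rw [h, ← hkey ψ' z] at h1
    exact mul_left_cancel₀ (pow_ne_zero _ (res ψ').2) h1
  · let T := Localization.Away a
    have haL : (a : L) ≠ 0 := fun h => χ.2 ((congrArg χ.1.1 (Subtype.ext h : a = 0)).trans (map_zero _))
    haveI := hgen.isFractionRing
    let j : T →+* L := IsLocalization.Away.lift a (g := algebraMap A L) (isUnit_iff_ne_zero.mpr haL)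
    let ε : T →+* F := IsLocalization.Away.lift a (g := χ.1.1) (isUnit_iff_ne_zero.mpr χ.2)
    have hker : RingHom.ker j.rangeRestrict ≤ RingHom.ker ε := fun z hz => by
      obtain ⟨⟨c, ⟨_, n, rfl⟩⟩, hc⟩ := IsLocalization.surj (Submonoid.powers a) z
      have h1 := congrArg j hc
      rw [map_mul, show j z = 0 from congrArg Subtype.val (RingHom.mem_ker.mp hz), zero_mul,
        IsLocalization.Away.lift_eq] at h1
      have h2 := congrArg ε hc
      rw [map_mul, IsLocalization.Away.lift_eq, IsLocalization.Away.lift_eq,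
        show c = 0 from IsFractionRing.injective A L (by rw [map_zero]; exact h1.symm), map_zero, map_pow] at h2
      exact RingHom.mem_ker.mpr ((mul_eq_zero.mp h2).resolve_right (pow_ne_zero _ χ.2))
    have hA' : ∀ z : A', (z : L) ∈ j.range := fun z => by
      obtain ⟨c, hc⟩ : ∃ c : A, (c : L) = (a : L) ^ N z.1 z.2 * (z : L) := ⟨⟨_, hN z.1 z.2⟩, rfl⟩
      refine ⟨algebraMap A T c * IsLocalization.Away.invSelf a ^ N z.1 z.2, ?_⟩
      have hinv : j (IsLocalization.Away.invSelf a) * (a : L) = 1 := by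
        have h1 := congrArg j (IsLocalization.Away.mul_invSelf (S := T) a)
        rw [map_mul, IsLocalization.Away.lift_eq, map_one, mul_comm] at h1
        exact h1
      rw [map_mul, map_pow, IsLocalization.Away.lift_eq]
      change (c : L) * _ = _
      rw [hc, mul_right_comm, ← mul_pow, mul_comm (a : L), hinv, one_pow, one_mul]
    obtain ⟨finv, hfinv⟩ : ∃ f : j.range → T, Function.RightInverse f j.rangeRestrict :=
      j.rangeRestrict_surjective.hasRightInverse
    let ψ0 : j.range →+* F := RingHom.liftOfRightInverse j.rangeRestrict finv hfinv ⟨ε, hker⟩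
    let ψ1 : A' →+* F := ψ0.comp (A'.val.toRingHom.codRestrict j.range hA')
    have hψA : ∀ c : A, ψ1 (Subalgebra.inclusion hle c) = χ.1.1 c := fun c => by
      have h1 : A'.val.toRingHom.codRestrict j.range hA' (Subalgebra.inclusion hle c) =
          j.rangeRestrict (algebraMap A T c) := Subtype.ext (by
        change (c : L) = j _
        rw [IsLocalization.Away.lift_eq]; rfl)
      change ψ0 _ = _
      rw [h1, RingHom.liftOfRightInverse_comp_apply, IsLocalization.Away.lift_eq]
    refine ⟨⟨⟨ψ1, RingHom.ext fun b => ?_⟩, by change ψ1 _ ≠ 0; rw [hψA]; exact χ.2⟩,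
      Subtype.ext (Subtype.ext (RingHom.ext fun c => hψA c))⟩
    rw [← χ.1.commutes b, RingHom.comp_apply, ← hψA]
    rfl

/-- Two models differ by `O(q ^ r / q)` points. -/
theorem exists_abs_card_sub_mul_le {A A' : Subalgebra R L} (hA : A.FG) (hA' : A'.FG) (hgen : GenOver A) (hle : A ≤ A')
    {r : ℕ} (hr : Algebra.trdeg K L = r) :
    ∃ f : R, f ≠ 0 ∧ ∃ C : ℕ, ∀ (F : Type u) [Field F] [Finite F] (φ : R →+* F), φ f ≠ 0 →
      |(Nat.card (Over φ A) : ℝ) - Nat.card (Over φ A')| * Nat.card F ≤ C * (Nat.card F : ℝ) ^ r := by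
  classical
  haveI : Algebra.FiniteType R A := (Subalgebra.fg_iff_finiteType _).mp hA
  haveI : Algebra.FiniteType R A' := (Subalgebra.fg_iff_finiteType _).mp hA'
  obtain ⟨a, ha, hclear⟩ := exists_clearing hA' hgen hle
  have ha' : Subalgebra.inclusion hle a ≠ 0 := fun h =>
    ha (Subalgebra.inclusion_injective hle (by rw [h, map_zero]))
  obtain ⟨f₁, hf₁, C₁, h₁⟩ := exists_card_over_mul_le (R := R) (A ⧸ Ideal.span {a}) (genFibre_quotient_lt hA hgen hr ha)
  obtain ⟨f₂, hf₂, C₂, h₂⟩ := exists_card_over_mul_le (R := R) (A' ⧸ Ideal.span {Subalgebra.inclusion hle a})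
    (genFibre_quotient_lt hA' (hgen.mono hle) hr ha')
  refine ⟨f₁ * f₂, mul_ne_zero hf₁ hf₂, C₁ + C₂, fun F _ _ φ hφ => ?_⟩
  rw [map_mul] at hφ
  rw [card_over_eq_add φ A a, card_over_eq_add φ A' (Subalgebra.inclusion hle a),
    card_over_away_eq hgen hle hclear φ]
  push_cast
  rw [add_sub_add_left_eq_sub]
  have e₁ : (Nat.card (Over φ (A ⧸ Ideal.span {a})) : ℝ) * Nat.card F ≤ C₁ * (Nat.card F : ℝ) ^ r := by
    exact_mod_cast h₁ F φ (left_ne_zero_of_mul hφ)
  have e₂ : (Nat.card (Over φ (A' ⧸ Ideal.span {Subalgebra.inclusion hle a})) : ℝ) * Nat.card F ≤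
      C₂ * (Nat.card F : ℝ) ^ r := by exact_mod_cast h₂ F φ (right_ne_zero_of_mul hφ)
  refine (mul_le_mul_of_nonneg_right (abs_sub _ _) (Nat.cast_nonneg _)).trans ?_
  rw [Nat.abs_cast, Nat.abs_cast, add_mul, add_mul]
  exact add_le_add e₁ e₂

/-- The estimate does not depend on the model. -/
theorem est_iff_of_le {A A' : Subalgebra R L} (hA : A.FG) (hA' : A'.FG) (hgen : GenOver A) (hle : A ≤ A') {r : ℕ}
    (hr : Algebra.trdeg K L = r) : Est R A r ↔ Est R A' r := by
  obtain ⟨f₁, hf₁, C₁, h₁⟩ := exists_abs_card_sub_mul_le hA hA' hgen hle hr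
  have key : ∀ (F : Type u) [Field F] [Finite F] (φ : R →+* F), φ f₁ ≠ 0 →
      |(Nat.card (Over φ A) : ℝ) - Nat.card (Over φ A')| * Real.sqrt (Nat.card F) ≤
        (C₁ : ℝ) * (Nat.card F : ℝ) ^ r := fun F _ _ φ hφ =>
    (mul_le_mul_of_nonneg_left sqrt_card_le (abs_nonneg _)).trans (h₁ F φ hφ)
  constructor <;> rintro ⟨f, hf, C, hC⟩ <;>
    refine ⟨f * f₁, mul_ne_zero hf hf₁, C + C₁, fun F _ _ φ hφ => ?_⟩ <;>
    rw [map_mul] at hφ <;> have h := hC F φ (left_ne_zero_of_mul hφ) <;>
    have hk := key F φ (right_ne_zero_of_mul hφ) <;> rw [Nat.cast_add, add_mul] <;>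
    refine le_trans ?_ (add_le_add h hk) <;> rw [← add_mul] <;>
    refine mul_le_mul_of_nonneg_right ?_ (Real.sqrt_nonneg _)
  · rw [add_comm, abs_sub_comm (Nat.card (Over φ A) : ℝ)]
    exact abs_sub_le _ _ _
  · rw [add_comm]
    exact abs_sub_le _ _ _

/-- The estimate passes from one model to any other. -/
theorem est_change {A A' : Subalgebra R L} (hA : A.FG) (hA' : A'.FG) (hgen : GenOver A) (hgen' : GenOver A') {r : ℕ}
    (hr : Algebra.trdeg K L = r) (h : Est R A' r) : Est R A r := by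
  have hsup : (A ⊔ A').FG := hA.sup hA'
  rw [est_iff_of_le hA hsup hgen le_sup_left hr]
  exact (est_iff_of_le hA' hsup hgen' le_sup_right hr).mp h

end Groth.L03.LangWeil
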