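import Groth.Agent.L03.LangWeil.SmoothPt
import Groth.Agent.L26.FF.PlaneGenus

/-!
The number of rational points of an absolutely irreducible plane curve is `q + O(√q)`.
-/

set_option autoImplicit false
universe u

open Polynomial FunFld Groth.Agent.FF Groth.Agent.Zeta WithZero Groth.L11.Zeta

namespace Groth.L03.LangWeil

variable {F : Type u} [Field F] [Finite F]

/-- The rational points of a plane curve away from the zeros of `r`. -/
def Pts (g : F[X][X]) (r : F[X]) : Set (F × F) := {z | r.eval z.1 ≠ 0 ∧ evPt z.1 z.2 g = 0}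

variable {L : Type u} [Field L] [Algebra (RatFunc F) L] [Algebra F L] [IsScalarTower F (RatFunc F) L]

local notation "tX" => algebraMap (RatFunc F) L RatFunc.X

/-- The points and the places of degree one differ by the places over finitely many abscissae. -/
theorem abs_card_pts_sub_le {g : F[X][X]} (hg : g.Monic) (hirr : AbsIrred g) {θ : L}
    (hθ : Polynomial.aeval θ (g.map (algebraMap F[X] (RatFunc F))) = 0)
    (hfin : Module.finrank (RatFunc F) L = g.natDegree) {r : F[X]} (hr : r ≠ 0)
    (hsm : ∀ x0 y0, r.eval x0 ≠ 0 → evPt x0 y0 g = 0 → evPt x0 y0 (Polynomial.derivative g) ≠ 0) :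
    |(Nat.card (Pts g r) : ℝ) - ((Nat.card F : ℝ) + 1)| ≤
      2 * (genus F L : ℝ) * Real.sqrt (Nat.card F) + g.natDegree * ((r.natDegree : ℝ) + 1) := by
  classical
  have hK := isFunctionField_curve hg hirr hθ hfin
  obtain ⟨α, -, hα, hnorm⟩ := norm_recip_root hK
  have hN := card_deg_one hK α hα
  set N1 := Nat.card {P : Place F L // P.deg = 1}
  haveI : Finite {P : Place F L // P.deg = 1} :=
    ((finite_places_deg_le hK.1 1).subset
      (show {P : Place F L | P.deg = 1} ⊆ {P | P.deg ≤ 1} from fun P hP => le_of_eq hP)).to_subtype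
  haveI : Fintype {P : Place F L // P.deg = 1} := Fintype.ofFinite _
  haveI := Fintype.ofFinite (Pts g r)
  have hweil : |(N1 : ℝ) - ((Nat.card F : ℝ) + 1)| ≤ 2 * (genus F L : ℝ) * Real.sqrt (Nat.card F) := by
    have h1 : ‖∑ i, α i‖ ≤ (2 * genus F L : ℕ) * Real.sqrt (Nat.card F) := by
      refine (norm_sum_le _ _).trans ?_
      simp [hnorm]
    have h3 : ∑ i, α i = (((Nat.card F : ℝ) + 1 - N1 : ℝ) : ℂ) := by
      push_cast; rw [hN]; ring
    rw [h3, Complex.norm_real, Real.norm_eq_abs, abs_sub_comm] at h1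
    push_cast at h1
    exact h1
  choose Φ hΦ using fun z : Pts g r => exists_centred (x0 := z.1.1) (y0 := z.1.2) hg hirr hθ hfin z.2.2
  let Ψ : Pts g r → {P : Place F L // P.deg = 1} := fun z =>
    ⟨Φ z, centred_deg hg hirr hθ hfin z.2.2 (hsm _ _ z.2.1 z.2.2) (hΦ z)⟩
  have hinj : Function.Injective Ψ := fun z z' h => by
    have hP : Φ z = Φ z' := congrArg Subtype.val h
    have key : ∀ (w : L) (c c' : F), (Φ z).1 (w - algebraMap F L c) < 1 → (Φ z).1 (w - algebraMap F L c') < 1 →
        c = c' := fun w c c' h1 h2 => by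
      by_contra hne
      have hv := val_const (Φ z) (sub_ne_zero.mpr hne)
      rw [show algebraMap F L (c - c') = (w - algebraMap F L c') - (w - algebraMap F L c) by rw [map_sub]; ring] at hv
      exact absurd hv ((Valuation.map_sub _ _ _).trans_lt (max_lt h2 h1)).ne
    refine Subtype.ext (Prod.ext (key _ _ _ (hΦ z).1 ?_) (key _ _ _ (hΦ z).2 ?_))
    · rw [hP]; exact (hΦ z').1
    · rw [hP]; exact (hΦ z').2
  let ys : Finset L := insert (tX)⁻¹ (r.roots.toFinset.image fun c => tX - algebraMap F L c)
  have hlost : ∀ P : {P : Place F L // P.deg = 1}, P ∉ Set.range Ψ → ∃ y ∈ ys, P.1.1 y < 1 := fun P hP => by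
    by_cases hx : P.1.1 tX ≤ 1
    · obtain ⟨x0, hx0⟩ := exists_value P.1 P.2 hx
      by_cases hrx : r.eval x0 = 0
      · exact ⟨_, Finset.mem_insert_of_mem (Finset.mem_image_of_mem _
          (Multiset.mem_toFinset.mpr ((Polynomial.mem_roots hr).mpr hrx))), hx0⟩
      exfalso
      have hθ1 : P.1.1 θ ≤ 1 := by
        have := val_theta_le hg hθ (e := g.support.sup fun i => (g.coeff i).natDegree) (fun i => by
          by_cases h0 : g.coeff i = 0
          · simp [h0]
          · exact Finset.le_sup (f := fun i => (g.coeff i).natDegree) (Polynomial.mem_support_iff.mpr h0))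
          P.1 le_rfl (hx.trans_eq exp_zero.symm)
        rwa [mul_zero, exp_zero] at this
      obtain ⟨y0, hy0⟩ := exists_value P.1 P.2 hθ1
      have hc : Centred θ x0 y0 P.1 := ⟨hx0, hy0⟩
      have hroot : evPt x0 y0 g = 0 := by
        by_contra hne
        have := hc.val_eq_one hne
        rw [ev_self hθ, map_zero] at this
        exact zero_ne_one this
      exact hP ⟨⟨(x0, y0), hrx, hroot⟩, Subtype.ext (centred_unique hg hirr hθ hfin hroot (hsm _ _ hrx hroot)
        (hΦ _) hc)⟩
    · exact ⟨_, Finset.mem_insert_self _ _, by rw [map_inv₀]; exact inv_lt_one_of_one_lt₀ (not_le.mp hx)⟩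
  have hfib : ∀ y ∈ ys, ((Finset.univ : Finset {P : Place F L // P.deg = 1}).filter fun P => P.1.1 y < 1).card ≤
      g.natDegree := fun y hy => by
    set S := ((Finset.univ : Finset {P : Place F L // P.deg = 1}).filter fun P => P.1.1 y < 1)
    obtain ⟨hytr, hadj⟩ : Transcendental F y ∧
        IntermediateField.adjoin F ({y} : Set L) = IntermediateField.adjoin F ({tX} : Set L) := by
      rcases Finset.mem_insert.mp hy with rfl | hy
      · refine ⟨fun h => transcendental_tX (F := F) (L := L) (by simpa using h.inv), le_antisymm ?_ ?_⟩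
        · rw [IntermediateField.adjoin_simple_le_iff]; exact inv_mem (IntermediateField.mem_adjoin_simple_self F _)
        · rw [IntermediateField.adjoin_simple_le_iff]
          simpa using inv_mem (IntermediateField.mem_adjoin_simple_self F (tX)⁻¹)
      · obtain ⟨c, -, rfl⟩ := Finset.mem_image.mp hy
        refine ⟨fun h => transcendental_tX (F := F) (L := L) (by
          simpa using h.add (isAlgebraic_algebraMap c)), le_antisymm ?_ ?_⟩
        · rw [IntermediateField.adjoin_simple_le_iff]
          exact sub_mem (IntermediateField.mem_adjoin_simple_self F _) (IntermediateField.algebraMap_mem _ _)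
        · rw [IntermediateField.adjoin_simple_le_iff]
          simpa using add_mem (IntermediateField.mem_adjoin_simple_self F (tX - algebraMap F L c))
            (IntermediateField.algebraMap_mem (IntermediateField.adjoin F ({tX - algebraMap F L c} : Set L)) c)
    have hy0 : y ≠ 0 := fun h => hytr (h ▸ isAlgebraic_zero)
    have h1 := sum_ord_le hK.1 hytr (S.image Subtype.val) fun P hP => by
      obtain ⟨Q, hQ, rfl⟩ := Finset.mem_image.mp hP
      exact (Finset.mem_filter.mp hQ).2
    rw [hadj, finrank_adjoin_tX, hfin, Finset.sum_image fun a _ b _ h => Subtype.ext h] at h1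
    have h2 : (S.card : ℤ) ≤ ∑ P ∈ S, P.1.ord y * P.1.deg := by
      rw [Finset.card_eq_sum_ones, Nat.cast_sum]
      refine Finset.sum_le_sum fun P hP => ?_
      rw [P.2, Nat.cast_one, mul_one]
      exact (val_lt_one_iff P.1 hy0).mp (Finset.mem_filter.mp hP).2
    exact_mod_cast h2.trans h1
  have hupper : N1 ≤ Nat.card (Pts g r) + (r.natDegree + 1) * g.natDegree := by
    have hsub : (Finset.univ : Finset {P : Place F L // P.deg = 1}) ⊆
        Finset.univ.image Ψ ∪ ys.biUnion fun y => Finset.univ.filter fun P => P.1.1 y < 1 := fun P _ => by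
      by_cases hP : P ∈ Set.range Ψ
      · obtain ⟨z, rfl⟩ := hP
        exact Finset.mem_union_left _ (Finset.mem_image_of_mem _ (Finset.mem_univ _))
      · obtain ⟨y, hy, hlt⟩ := hlost P hP
        exact Finset.mem_union_right _ (Finset.mem_biUnion.mpr ⟨y, hy, by simpa using hlt⟩)
    have := (Finset.card_le_card hsub).trans (Finset.card_union_le _ _)
    rw [Finset.card_univ, ← Nat.card_eq_fintype_card] at this
    refine this.trans (Nat.add_le_add (Finset.card_image_le.trans (le_of_eq ?_)) ?_)
    · rw [Finset.card_univ, Nat.card_eq_fintype_card]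
    · refine (Finset.card_biUnion_le_card_mul _ _ _ hfib).trans (Nat.mul_le_mul_right _ ?_)
      exact (Finset.card_insert_le _ _).trans (Nat.add_le_add_right
        (Finset.card_image_le.trans ((Multiset.toFinset_card_le _).trans (Polynomial.card_roots' _))) 1)
  have hlower : Nat.card (Pts g r) ≤ N1 := Nat.card_le_card_of_injective Ψ hinj
  have h1 : (Nat.card (Pts g r) : ℝ) ≤ N1 := by exact_mod_cast hlower
  have h2 : (N1 : ℝ) ≤ Nat.card (Pts g r) + ((r.natDegree : ℝ) + 1) * g.natDegree := by exact_mod_cast hupper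
  rw [abs_le] at hweil ⊢
  constructor <;> linarith [hweil.1, hweil.2]

omit [Algebra (RatFunc F) L] [Algebra F L] in
/-- The count with the genus bound coming from the degrees of the coefficients. -/
theorem plane_count_two {g : F[X][X]} (hg : g.Monic) (hirr : AbsIrred g) {e : ℕ}
    (he : ∀ i, (g.coeff i).natDegree ≤ e) {r : F[X]} (hr : r ≠ 0)
    (hsm : ∀ x0 y0, r.eval x0 ≠ 0 → evPt x0 y0 g = 0 → evPt x0 y0 (Polynomial.derivative g) ≠ 0) :
    |(Nat.card (Pts g r) : ℝ) - ((Nat.card F : ℝ) + 1)| ≤
      2 * ((1 + g.natDegree * (e * g.natDegree) : ℕ) : ℝ) * Real.sqrt (Nat.card F) +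
        g.natDegree * ((r.natDegree : ℝ) + 1) := by
  haveI := Fact.mk (irreducible_map_ratFunc hg (irreducible_self hg hirr))
  have hne : g.map (algebraMap F[X] (RatFunc F)) ≠ 0 := (hg.map _).ne_zero
  have hθ : Polynomial.aeval (AdjoinRoot.root (g.map (algebraMap F[X] (RatFunc F))))
      (g.map (algebraMap F[X] (RatFunc F))) = 0 := by rw [AdjoinRoot.aeval_eq, AdjoinRoot.mk_self]
  have hfin : Module.finrank (RatFunc F) (AdjoinRoot (g.map (algebraMap F[X] (RatFunc F)))) = g.natDegree := by
    rw [(AdjoinRoot.powerBasis hne).finrank, AdjoinRoot.powerBasis_dim, hg.natDegree_map]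
  refine (abs_card_pts_sub_le hg hirr hθ hfin hr hsm).trans ?_
  gcongr
  exact_mod_cast genus_le hg hirr hθ hfin he

end Groth.L03.LangWeil
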