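import Groth.Agent.L11.Zeta.PlaneCount
import Mathlib.Algebra.Polynomial.Derivative
import Mathlib.RingTheory.Valuation.LocalSubring

/-!
Places of degree one over the smooth rational points of an absolutely irreducible plane curve.
-/

set_option autoImplicit false
universe u

open Polynomial FunFld Groth.Agent.FF Groth.Agent.Zeta WithZero Groth.L11.Zeta

namespace Groth.L03.LangWeil

variable {F : Type u} [Field F] {L : Type u} [Field L] [Algebra (RatFunc F) L] [Algebra F L]
  [IsScalarTower F (RatFunc F) L]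

local notation "tX" => algebraMap (RatFunc F) L RatFunc.X

variable (L) in
/-- Evaluation of a polynomial in two variables at the generic point. -/
noncomputable def ev (θ : L) : F[X][X] →+* L :=
  Polynomial.eval₂RingHom (Polynomial.aeval tX : F[X] →ₐ[F] L).toRingHom θ

/-- Evaluation at a point. -/
noncomputable def evPt (x0 y0 : F) : F[X][X] →+* F :=
  Polynomial.eval₂RingHom (Polynomial.evalRingHom x0) y0

theorem ev_apply (θ : L) (a : F[X][X]) :
    ev L θ a = Polynomial.aeval θ (a.map (algebraMap F[X] (RatFunc F))) := by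
  rw [ev, Polynomial.coe_eval₂RingHom, Polynomial.aeval_def, Polynomial.eval₂_map]
  congr 1
  exact RingHom.ext fun p => (algebraMap_polynomial (L := L) p).symm

theorem evPt_apply (x0 y0 : F) (a : F[X][X]) :
    evPt x0 y0 a = (a.map (Polynomial.evalRingHom x0)).eval y0 := by
  rw [evPt, Polynomial.coe_eval₂RingHom, Polynomial.eval_map]

theorem evPt_eq_eval_eval (x0 y0 : F) (a : F[X][X]) : evPt x0 y0 a = (a.eval (Polynomial.C y0)).eval x0 := by
  have : evPt x0 y0 = (Polynomial.evalRingHom x0).comp (Polynomial.evalRingHom (Polynomial.C y0)) :=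
    Polynomial.ringHom_ext (fun p => by simp [evPt]) (by simp [evPt])
  rw [this]; rfl

/-- A place centred at a point. -/
def Centred (θ : L) (x0 y0 : F) (P : Place F L) : Prop :=
  P.1 (tX - algebraMap F L x0) < 1 ∧ P.1 (θ - algebraMap F L y0) < 1

variable {g : F[X][X]} (hg : g.Monic) (hirr : AbsIrred g) {θ : L}
  (hθ : Polynomial.aeval θ (g.map (algebraMap F[X] (RatFunc F))) = 0)
  (hfin : Module.finrank (RatFunc F) L = g.natDegree)
  {x0 y0 : F} (hroot : evPt x0 y0 g = 0) (hder : evPt x0 y0 (Polynomial.derivative g) ≠ 0)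

omit [IsScalarTower F (RatFunc F) L] in
theorem Centred.val_ev_sub {P : Place F L} (hP : Centred θ x0 y0 P) (a : F[X][X]) :
    P.1 (ev L θ a - algebraMap F L (evPt x0 y0 a)) < 1 := by
  have hle : ∀ (z : L) (c : F), P.1 (z - algebraMap F L c) < 1 → P.1 z ≤ 1 := fun z c h => by
    have := P.1.map_add (z - algebraMap F L c) (algebraMap F L c)
    rw [sub_add_cancel] at this
    exact this.trans (max_le h.le (P.2.1 c))
  let u : P.O := ⟨tX, hle _ _ hP.1⟩
  let w : P.O := ⟨θ, hle _ _ hP.2⟩
  let evO : F[X][X] →+* P.O := Polynomial.eval₂RingHom (Polynomial.aeval u).toRingHom w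
  have hev : ∀ a, (evO a : L) = ev L θ a := fun a => by
    have : P.O.subtype.comp evO = ev L θ := Polynomial.ringHom_ext
      (fun p => by
        simp only [RingHom.comp_apply, evO, ev, Polynomial.coe_eval₂RingHom, Polynomial.eval₂_C]
        exact (Polynomial.aeval_algHom_apply
          ({ P.O.subtype with commutes' := fun _ => rfl } : P.O →ₐ[F] L) u p).symm)
      (by simp only [RingHom.comp_apply, evO, ev, Polynomial.coe_eval₂RingHom, Polynomial.eval₂_X]; rfl)
    exact RingHom.congr_fun this a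
  have hu : resMap P u = algebraMap F _ x0 := by
    rw [← sub_eq_zero, ← AlgHom.commutes (resMap P), ← map_sub, residue_eq_zero]; exact hP.1
  have hw : resMap P w = algebraMap F _ y0 := by
    rw [← sub_eq_zero, ← AlgHom.commutes (resMap P), ← map_sub, residue_eq_zero]; exact hP.2
  have hres : (resMap P).toRingHom.comp evO = (algebraMap F _).comp (evPt x0 y0) := Polynomial.ringHom_ext
    (fun p => by
      simp only [RingHom.comp_apply, evO, evPt, Polynomial.coe_eval₂RingHom, Polynomial.eval₂_C]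
      change resMap P (Polynomial.aeval u p) = algebraMap F _ (p.eval x0)
      rw [← Polynomial.aeval_algHom_apply, hu, Polynomial.aeval_algebraMap_apply_eq_algebraMap_eval])
    (by simp only [RingHom.comp_apply, evO, evPt, Polynomial.coe_eval₂RingHom, Polynomial.eval₂_X]; exact hw)
  have h := RingHom.congr_fun hres a
  have h2 : resMap P (evO a - algebraMap F P.O (evPt x0 y0 a)) = 0 := by
    rw [map_sub, AlgHom.commutes, sub_eq_zero]; exact h
  rw [residue_eq_zero] at h2
  rw [← hev]
  exact h2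

omit [IsScalarTower F (RatFunc F) L] in
theorem Centred.val_eq_one {P : Place F L} (hP : Centred θ x0 y0 P) {a : F[X][X]} (ha : evPt x0 y0 a ≠ 0) :
    P.1 (ev L θ a) = 1 := by
  have h1 := val_const P ha
  exact (Valuation.map_eq_of_sub_lt P.1 ((hP.val_ev_sub a).trans_eq h1.symm)).trans h1

omit [IsScalarTower F (RatFunc F) L] in
theorem Centred.val_lt_one {P : Place F L} (hP : Centred θ x0 y0 P) {a : F[X][X]} (ha : evPt x0 y0 a = 0) :
    P.1 (ev L θ a) < 1 := by
  simpa [ha] using hP.val_ev_sub a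

include hθ in
theorem ev_self : ev L θ g = 0 := by rw [ev_apply, hθ]

theorem exists_decomp_at_point (x0 y0 : F) (a : F[X][X]) :
    ∃ (a₁ : F[X][X]) (c : F), ∃ a₂ : F[X], a = (Polynomial.X - Polynomial.C (Polynomial.C y0)) * a₁ +
      Polynomial.C ((Polynomial.X - Polynomial.C x0) * a₂ + Polynomial.C c) ∧ c = evPt x0 y0 a := by
  set p := a.eval (Polynomial.C y0)
  refine ⟨a /ₘ (Polynomial.X - Polynomial.C (Polynomial.C y0)), _, p /ₘ (Polynomial.X - Polynomial.C x0), ?_, rfl⟩
  rw [evPt_eq_eval_eval]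
  have h1 := Polynomial.modByMonic_add_div a (Polynomial.X - Polynomial.C (Polynomial.C y0))
  rw [Polynomial.modByMonic_X_sub_C_eq_C_eval] at h1
  have h2 := Polynomial.modByMonic_add_div p (Polynomial.X - Polynomial.C x0)
  rw [Polynomial.modByMonic_X_sub_C_eq_C_eval] at h2
  conv_lhs => rw [← h1]
  rw [show (Polynomial.X - Polynomial.C x0) * (p /ₘ (Polynomial.X - Polynomial.C x0)) + Polynomial.C (p.eval x0) = p by
    rw [add_comm]; exact h2]
  rw [add_comm]

include hθ hroot hder in
/-- One step of division by the uniformizer. -/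
theorem exists_div_uniformizer : ∃ h : F[X][X], evPt x0 y0 h ≠ 0 ∧ ∀ a, evPt x0 y0 a = 0 →
    ∃ a' : F[X][X], ev L θ h * ev L θ a = (tX - algebraMap F L x0) * ev L θ a' := by
  obtain ⟨g₁, c, g₂, hg1, hc⟩ := exists_decomp_at_point x0 y0 g
  rw [hroot] at hc
  subst hc
  refine ⟨g₁, ?_, fun a ha => ?_⟩
  · intro h0
    apply hder
    rw [hg1, Polynomial.derivative_add, Polynomial.derivative_mul, Polynomial.derivative_C, add_zero,
      Polynomial.derivative_sub, Polynomial.derivative_X, Polynomial.derivative_C, sub_zero, one_mul, map_add,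
      map_mul, h0]
    simp [evPt]
  · obtain ⟨a₁, c, a₂, ha1, hc⟩ := exists_decomp_at_point x0 y0 a
    rw [ha] at hc
    subst hc
    refine ⟨Polynomial.C a₂ * g₁ - Polynomial.C g₂ * a₁, ?_⟩
    have e0 := ev_self (L := L) hθ
    rw [hg1] at e0
    have hX : ev L θ (Polynomial.C (Polynomial.X - Polynomial.C x0)) = tX - algebraMap F L x0 := by
      simp [ev]
    rw [ha1]
    simp only [map_add, map_mul, map_sub, map_zero, add_zero] at e0 hX ⊢
    rw [hX] at e0 ⊢
    linear_combination (ev L θ a₁) * e0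

include hg hirr hθ in
theorem evPt_eq_zero_of_ev_eq_zero (hroot : evPt x0 y0 g = 0) {a : F[X][X]} (ha : ev L θ a = 0) :
    evPt x0 y0 a = 0 := by
  have hdvd : a %ₘ g = 0 := by
    by_contra hne
    have hm : ev L θ (a %ₘ g) = 0 := by
      have := congrArg (ev L θ) (Polynomial.modByMonic_add_div a g)
      rw [map_add, map_mul, ev_self hθ, zero_mul, add_zero, ha] at this
      exact this
    rw [ev_apply] at hm
    have hne' : (a %ₘ g).map (algebraMap F[X] (RatFunc F)) ≠ 0 :=
      (Polynomial.map_ne_zero_iff (RatFunc.algebraMap_injective F)).mpr hne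
    have h1 := Polynomial.natDegree_le_of_dvd (minpoly.dvd (RatFunc F) θ hm) hne'
    rw [natDegree_minpoly hg hirr hθ, Polynomial.natDegree_map_eq_of_injective (RatFunc.algebraMap_injective F)] at h1
    have hg1 : g ≠ 1 := fun h => not_irreducible_one (h ▸ irreducible_self hg hirr)
    exact absurd h1 (not_le.mpr (Polynomial.natDegree_modByMonic_lt a hg hg1))
  rw [← Polynomial.modByMonic_add_div a g, hdvd, zero_add, map_mul, hroot, zero_mul]

include hθ hroot hder in
theorem exists_ord_decomp {P : Place F L} (hP : Centred θ x0 y0 P) (n : ℕ) :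
    ∀ z : F[X][X], exp (-(n : ℤ)) ≤ P.1 (ev L θ z) →
      ∃ (k : ℕ) (a b : F[X][X]), evPt x0 y0 a ≠ 0 ∧ evPt x0 y0 b ≠ 0 ∧
        ev L θ z * ev L θ b = (tX - algebraMap F L x0) ^ k * ev L θ a := by
  induction n with
  | zero =>
    intro z hz
    refine ⟨0, z, 1, fun h => ?_, by simp, by simp⟩
    have := hP.val_lt_one h
    simp only [Nat.cast_zero, neg_zero, exp_zero] at hz
    exact absurd this (not_lt.mpr hz)
  | succ n ih =>
    intro z hz
    by_cases h : evPt x0 y0 z = 0
    swap
    · exact ⟨0, z, 1, h, by simp, by simp⟩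
    obtain ⟨h₁, hh, hdiv⟩ := exists_div_uniformizer hθ hroot hder
    obtain ⟨z', hz'⟩ := hdiv z h
    have hv := congrArg P.1 hz'
    rw [map_mul, map_mul, hP.val_eq_one hh, one_mul] at hv
    obtain ⟨k, a, b, ha, hb, heq⟩ := ih z' (by
      have h1 : exp (-((n + 1 : ℕ) : ℤ)) ≤ exp (-1) * P.1 (ev L θ z') :=
        hz.trans (hv.le.trans (mul_le_mul' (lt_one_le_exp hP.1) le_rfl))
      have h2 := mul_le_mul' (le_refl (exp (1 : ℤ))) h1
      rw [← mul_assoc, ← exp_add, ← exp_add, add_neg_cancel, exp_zero, one_mul] at h2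
      refine le_of_eq_of_le ?_ h2
      congr 1
      push_cast
      ring)
    exact ⟨k + 1, a, b * h₁, ha, by rw [map_mul]; exact mul_ne_zero hb hh, by
      rw [map_mul, pow_succ]
      linear_combination (tX - algebraMap F L x0) * heq + ev L θ b * hz'⟩

include hg hirr hθ hfin in
theorem exists_quotient (w : L) : ∃ (s : F[X]) (c : F[X][X]), s ≠ 0 ∧ w * ev L θ (Polynomial.C s) = ev L θ c := by
  have hd : 0 < g.natDegree := by
    rcases Nat.eq_zero_or_pos g.natDegree with h | h
    · exact absurd (hg.natDegree_eq_zero.mp h ▸ irreducible_self hg hirr) not_irreducible_one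
    · exact h
  haveI : FiniteDimensional (RatFunc F) L := Module.finite_of_finrank_pos (by omega)
  have hint := IsIntegral.of_finite (RatFunc F) θ
  have htop : IntermediateField.adjoin (RatFunc F) ({θ} : Set L) = ⊤ :=
    IntermediateField.eq_of_le_of_finrank_eq le_top (by
      rw [IntermediateField.adjoin.finrank hint, natDegree_minpoly hg hirr hθ, IntermediateField.finrank_top', hfin])
  have hw : w ∈ Algebra.adjoin (RatFunc F) ({θ} : Set L) := by
    rw [← IntermediateField.adjoin_simple_toSubalgebra_of_isAlgebraic hint.isAlgebraic, htop]; trivial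
  rw [Algebra.adjoin_singleton_eq_range_aeval] at hw
  obtain ⟨q, rfl⟩ := hw
  obtain ⟨⟨s, hs⟩, hs'⟩ := IsLocalization.integerNormalization_map_to_map (nonZeroDivisors F[X]) q
  refine ⟨s, IsLocalization.integerNormalization (nonZeroDivisors F[X]) q, nonZeroDivisors.ne_zero hs, ?_⟩
  rw [ev_apply, ev_apply, hs', Polynomial.map_C, Polynomial.aeval_C]
  rw [show (s • q) = Polynomial.C (algebraMap F[X] (RatFunc F) s) * q by
      rw [← algebraMap_smul (RatFunc F) s q, Polynomial.smul_eq_C_mul], map_mul, Polynomial.aeval_C]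
  exact mul_comm _ _

include hθ hroot hder in
theorem exists_ord_decomp' {P : Place F L} (hP : Centred θ x0 y0 P) {z : F[X][X]} (hz : ev L θ z ≠ 0) :
    ∃ (k : ℕ) (a b : F[X][X]), evPt x0 y0 a ≠ 0 ∧ evPt x0 y0 b ≠ 0 ∧
      ev L θ z * ev L θ b = (tX - algebraMap F L x0) ^ k * ev L θ a := by
  refine exists_ord_decomp hθ hroot hder hP (P.ord (ev L θ z)).toNat z ?_
  rw [val_eq_exp P hz, exp_le_exp, neg_le_neg_iff]
  exact Int.self_le_toNat _

variable (L) in
theorem t_ne_zero (x0 : F) : tX - algebraMap F L x0 ≠ 0 :=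
  sub_ne_zero.mpr fun h => transcendental_tX (F := F) (L := L) (h ▸ isAlgebraic_algebraMap x0)

include hg hirr hθ hfin hroot hder in
theorem exists_form {P : Place F L} (hP : Centred θ x0 y0 P) {w : L} (hw : w ≠ 0) :
    ∃ (k l : ℕ) (a b : F[X][X]), evPt x0 y0 a ≠ 0 ∧ evPt x0 y0 b ≠ 0 ∧
      w * (tX - algebraMap F L x0) ^ l * ev L θ b = (tX - algebraMap F L x0) ^ k * ev L θ a := by
  obtain ⟨s, c, hs, hsc⟩ := exists_quotient hg hirr hθ hfin w
  have hs0 : ev L θ (Polynomial.C s) ≠ 0 := by
    rw [ev_apply, Polynomial.map_C, Polynomial.aeval_C]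
    exact (map_ne_zero_iff _ (algebraMap (RatFunc F) L).injective).mpr
      ((map_ne_zero_iff _ (RatFunc.algebraMap_injective F)).mpr hs)
  obtain ⟨k, a, b, ha, hb, hab⟩ := exists_ord_decomp' hθ hroot hder hP (hsc ▸ mul_ne_zero hw hs0 : ev L θ c ≠ 0)
  obtain ⟨l, a', b', ha', hb', hab'⟩ := exists_ord_decomp' hθ hroot hder hP hs0
  refine ⟨k, l, a * b', b * a', by rw [map_mul]; exact mul_ne_zero ha hb', by rw [map_mul]; exact mul_ne_zero hb ha', ?_⟩
  rw [map_mul, map_mul]
  linear_combination (ev L θ b') * hab + (ev L θ b * ev L θ b') * hsc - (w * ev L θ b) * hab'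

include hg hirr hθ hfin hroot hder in
theorem centred_unique {P Q : Place F L} (hP : Centred θ x0 y0 P) (hQ : Centred θ x0 y0 Q) : P = Q := by
  refine eq_of_le fun w hw => ?_
  rcases eq_or_ne w 0 with rfl | hw0
  · simp
  obtain ⟨k, l, a, b, ha, hb, hab⟩ := exists_form hg hirr hθ hfin hroot hder hP hw0
  have key : ∀ R : Place F L, Centred θ x0 y0 R →
      R.1 w * R.1 (tX - algebraMap F L x0) ^ l = R.1 (tX - algebraMap F L x0) ^ k := fun R hR => by
    have := congrArg R.1 hab
    rwa [map_mul, map_mul, map_mul, map_pow, map_pow, hR.val_eq_one ha, hR.val_eq_one hb, mul_one, mul_one] at this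
  have h1 := key P hP
  have h2 := key Q hQ
  have hlk : l ≤ k := by
    by_contra! hlt
    set t := P.1 (tX - algebraMap F L x0)
    have ht0 : 0 < t := zero_lt_iff.mpr (val_ne_zero P (t_ne_zero L x0))
    have : t ^ l < t ^ k := pow_lt_pow_right_of_lt_one₀ ht0 hP.1 hlt
    rw [← h1] at this
    exact absurd this (not_lt.mpr (mul_le_of_le_one_left' hw))
  obtain ⟨j, rfl⟩ := Nat.exists_eq_add_of_le hlk
  rw [pow_add, mul_comm (Q.1 w)] at h2
  rw [mul_left_cancel₀ (pow_ne_zero _ (val_ne_zero Q (t_ne_zero L x0))) h2]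
  exact pow_le_one' hQ.1.le j

include hg hirr hθ hfin hroot hder in
theorem centred_deg {P : Place F L} (hP : Centred θ x0 y0 P) : P.deg = 1 := by
  have hsurj : Function.Surjective (algebraMap F (IsLocalRing.ResidueField P.O)) := fun y => by
    obtain ⟨⟨w, hw⟩, rfl⟩ := IsLocalRing.residue_surjective y
    rcases (show P.1 w ≤ 1 from hw).lt_or_eq with hlt | h1
    · refine ⟨0, ?_⟩
      rw [map_zero]
      exact ((residue_eq_zero P ⟨w, hw⟩).mpr hlt).symm
    have hw0 : w ≠ 0 := fun h => zero_ne_one (α := WithZero (Multiplicative ℤ)) (by rw [← h1, h, map_zero])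
    obtain ⟨k, l, a, b, ha, hb, hab⟩ := exists_form hg hirr hθ hfin hroot hder hP hw0
    have hkl := congrArg P.1 hab
    rw [map_mul, map_mul, map_mul, map_pow, map_pow, hP.val_eq_one ha, hP.val_eq_one hb, h1, one_mul, mul_one,
      mul_one] at hkl
    have hkl' : l = k := by
      have ht0 : 0 < P.1 (tX - algebraMap F L x0) := zero_lt_iff.mpr (val_ne_zero P (t_ne_zero L x0))
      rcases lt_trichotomy l k with h | h | h
      · exact absurd hkl (pow_lt_pow_right_of_lt_one₀ ht0 hP.1 h).ne'
      · exact h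
      · exact absurd hkl (pow_lt_pow_right_of_lt_one₀ ht0 hP.1 h).ne
    subst hkl'
    rw [mul_comm w, mul_assoc] at hab
    have hab' := mul_left_cancel₀ (pow_ne_zero _ (t_ne_zero L x0)) hab
    refine ⟨evPt x0 y0 a / evPt x0 y0 b, ?_⟩
    symm
    set c := evPt x0 y0 a / evPt x0 y0 b
    have hd : P.1 (w - algebraMap F L c) < 1 := by
      have h2 : (w - algebraMap F L c) * ev L θ b = (ev L θ a - algebraMap F L (evPt x0 y0 a)) -
          algebraMap F L c * (ev L θ b - algebraMap F L (evPt x0 y0 b)) := by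
        rw [show algebraMap F L (evPt x0 y0 a) = algebraMap F L c * algebraMap F L (evPt x0 y0 b) by
          rw [← map_mul, div_mul_cancel₀ _ hb]]
        linear_combination hab'
      have h3 := congrArg P.1 h2
      rw [map_mul, hP.val_eq_one hb, mul_one] at h3
      rw [h3]
      refine (P.1.map_sub _ _).trans_lt (max_lt (hP.val_ev_sub a) ?_)
      rw [map_mul]
      exact (mul_le_of_le_one_left' (P.2.1 c)).trans_lt (hP.val_ev_sub b)
    have h4 := (residue_eq_zero P (⟨w, hw⟩ - algebraMap F P.O c)).mpr hd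
    rwa [map_sub, AlgHom.commutes, sub_eq_zero] at h4
  exact ((LinearEquiv.ofBijective (Algebra.linearMap F (IsLocalRing.ResidueField P.O))
    ⟨(algebraMap F (IsLocalRing.ResidueField P.O)).injective, hsurj⟩).finrank_eq).symm.trans (Module.finrank_self F)

include hg hirr hθ hfin hroot in
theorem exists_centred : ∃ P : Place F L, Centred θ x0 y0 P := by
  have hK := isFunctionField_curve hg hirr hθ hfin
  let A : Subring L := (ev (F := F) L θ).range
  let I : Ideal A := (RingHom.ker (evPt x0 y0)).map (ev (F := F) L θ).rangeRestrict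
  have hI : I ≠ ⊤ := fun h => by
    obtain ⟨a, ha, ha1⟩ := (Ideal.mem_map_iff_of_surjective _ (ev L θ).rangeRestrict_surjective).mp
      (h ▸ Submodule.mem_top : (1 : A) ∈ I)
    have h1 : ev L θ (a - 1) = 0 := by
      rw [map_sub, map_one, sub_eq_zero]; exact congrArg Subtype.val ha1
    have h2 := evPt_eq_zero_of_ev_eq_zero hg hirr hθ hroot h1
    rw [map_sub, RingHom.mem_ker.mp ha, map_one, zero_sub, neg_eq_zero] at h2
    exact one_ne_zero h2
  obtain ⟨O, hAO, hIO⟩ := Ideal.image_subset_nonunits_valuationSubring I hI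
  have hO : ∀ c : F, algebraMap F L c ∈ O := fun c =>
    hAO ⟨Polynomial.C (Polynomial.C c), by simp [ev]⟩
  have hmem : ∀ a, evPt x0 y0 a = 0 → ev L θ a ∈ O.nonunits := fun a ha =>
    hIO ⟨(ev L θ).rangeRestrict a, Ideal.mem_map_of_mem _ (RingHom.mem_ker.mpr ha), rfl⟩
  have ht : tX - algebraMap F L x0 ∈ O.nonunits := by
    have := hmem (Polynomial.C (Polynomial.X - Polynomial.C x0)) (by simp [evPt])
    simpa [ev] using this
  have hy : θ - algebraMap F L y0 ∈ O.nonunits := by
    have := hmem (Polynomial.X - Polynomial.C (Polynomial.C y0)) (by simp [evPt])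
    simpa [ev] using this
  obtain ⟨P, -, hP⟩ := exists_place_of_valuationSubring O hO hK.1 ⟨_, ht, t_ne_zero L x0⟩
  exact ⟨P, hP _ ht, hP _ hy⟩

end Groth.L03.LangWeil
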