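import Groth.Agent.L03.LangWeil.PlaneTwo
import Groth.Agent.L11.Zeta.Regular
import Mathlib.RingTheory.DedekindDomain.IntegralClosure
import Mathlib.RingTheory.Localization.Integral
import Mathlib.RingTheory.Polynomial.ScaleRoots
import Mathlib.FieldTheory.Separable

/-!
Uniform counts on the fibres of a family of absolutely irreducible plane curves.
-/

set_option autoImplicit false
universe u

open Polynomial Groth.L11.Zeta

namespace Groth.L03.LangWeil

variable {B : Type u} [CommRing B] [IsDomain B] (K₀ : Type u) [Field K₀] [Algebra B K₀] [IsFractionRing B K₀]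

/-- Polynomials over `B` to rational functions over its fraction field. -/
noncomputable def toRat : B[X] →+* RatFunc K₀ :=
  (algebraMap K₀[X] (RatFunc K₀)).comp (Polynomial.mapRingHom (algebraMap B K₀))

theorem toRat_injective : Function.Injective (toRat (B := B) K₀) :=
  (RatFunc.algebraMap_injective K₀).comp (Polynomial.map_injective _ (IsFractionRing.injective B K₀))

theorem exists_mul_toRat (p : K₀[X]) : ∃ c : B, c ≠ 0 ∧ ∃ P : B[X],
    Polynomial.C (algebraMap B K₀ c) * p = P.map (algebraMap B K₀) := by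
  obtain ⟨c, hc, h⟩ := IsLocalization.integerNormalization_spec (nonZeroDivisors B) p
  refine ⟨c, nonZeroDivisors.ne_zero hc, IsLocalization.integerNormalization (nonZeroDivisors B) p, ?_⟩
  rw [h, ← algebraMap_smul K₀ c p, Polynomial.smul_eq_C_mul]

theorem isFractionRing_toRat : @IsFractionRing B[X] _ (RatFunc K₀) _ (toRat K₀).toAlgebra := by
  letI := (toRat (B := B) K₀).toAlgebra
  haveI : FaithfulSMul B[X] (RatFunc K₀) := (faithfulSMul_iff_algebraMap_injective _ _).mpr (toRat_injective K₀)
  refine IsFractionRing.of_field B[X] (RatFunc K₀) fun z => ?_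
  obtain ⟨c, hc, P, hP⟩ := exists_mul_toRat (B := B) K₀ z.num
  obtain ⟨d, hd, Q, hQ⟩ := exists_mul_toRat (B := B) K₀ z.denom
  refine ⟨Polynomial.C d * P, Polynomial.C c * Q, ?_⟩
  change z = toRat K₀ (Polynomial.C d * P) / toRat K₀ (Polynomial.C c * Q)
  conv_lhs => rw [← RatFunc.num_div_denom z]
  simp only [toRat, RingHom.comp_apply, Polynomial.coe_mapRingHom, Polynomial.map_mul, Polynomial.map_C, ← hP, ← hQ,
    map_mul]
  have hc' : algebraMap K₀[X] (RatFunc K₀) (Polynomial.C (algebraMap B K₀ c)) ≠ 0 := by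
    simpa using hc
  have hd' : algebraMap K₀[X] (RatFunc K₀) (Polynomial.C (algebraMap B K₀ d)) ≠ 0 := by
    simpa using hd
  field_simp

/-- A multiple of `s` at whose non-zeros the fibres are smooth over the abscissa. -/
theorem exists_smooth_locus {g : B[X][X]}
    (hsep : (g.map (toRat K₀)).Separable) {s : B[X]} (hs : s ≠ 0) :
    ∃ r : B[X], r ≠ 0 ∧ s ∣ r ∧ ∃ U V : B[X][X], U * g + V * Polynomial.derivative g = Polynomial.C r := by
  letI := (toRat (B := B) K₀).toAlgebra
  haveI := isFractionRing_toRat (B := B) K₀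
  obtain ⟨u, v, huv⟩ := hsep
  obtain ⟨su, hsu, hu⟩ := IsLocalization.integerNormalization_spec (nonZeroDivisors B[X]) u
  obtain ⟨sv, hsv, hv⟩ := IsLocalization.integerNormalization_spec (nonZeroDivisors B[X]) v
  set U := IsLocalization.integerNormalization (nonZeroDivisors B[X]) u
  set V := IsLocalization.integerNormalization (nonZeroDivisors B[X]) v
  refine ⟨s * (su * sv), mul_ne_zero hs (mul_ne_zero (nonZeroDivisors.ne_zero hsu) (nonZeroDivisors.ne_zero hsv)),
    dvd_mul_right _ _, Polynomial.C (s * sv) * U, Polynomial.C (s * su) * V,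
    Polynomial.map_injective _ (toRat_injective K₀) ?_⟩
  have hu' : U.map (toRat K₀) = Polynomial.C (toRat K₀ su) * u := by
    rw [show toRat K₀ = algebraMap B[X] (RatFunc K₀) from rfl, hu, ← algebraMap_smul (RatFunc K₀) su u,
      Polynomial.smul_eq_C_mul]
  have hv' : V.map (toRat K₀) = Polynomial.C (toRat K₀ sv) * v := by
    rw [show toRat K₀ = algebraMap B[X] (RatFunc K₀) from rfl, hv, ← algebraMap_smul (RatFunc K₀) sv v,
      Polynomial.smul_eq_C_mul]
  simp only [Polynomial.map_add, Polynomial.map_mul, Polynomial.map_C, ← Polynomial.derivative_map, hu', hv',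
    map_mul]
  linear_combination (Polynomial.C (toRat K₀ s) * Polynomial.C (toRat K₀ su) * Polynomial.C (toRat K₀ sv)) * huv

/-- The number of points of the fibres away from `r`. -/
theorem exists_fibre_count {g : B[X][X]} (hg : g.Monic) (hd : 0 < g.natDegree)
    (hirr : Irreducible (g.map (Polynomial.mapRingHom ((algebraMap K₀ (AlgebraicClosure K₀)).comp (algebraMap B K₀)))))
    {r : B[X]} (hr : r ≠ 0) {U V : B[X][X]} (hUV : U * g + V * Polynomial.derivative g = Polynomial.C r) :
    ∃ D : B, D ≠ 0 ∧ ∃ C : ℕ, ∀ (F : Type u) [Field F] [Finite F] (φ : B →+* F), φ D ≠ 0 →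
      |(Nat.card (Pts (g.map (Polynomial.mapRingHom φ)) (r.map φ)) : ℝ) - Nat.card F| ≤
        C * Real.sqrt (Nat.card F) := by
  classical
  set e := g.support.sup fun i => (g.coeff i).natDegree
  have he : ∀ i, (g.coeff i).natDegree ≤ e := fun i => by
    by_cases h0 : g.coeff i = 0
    · simp [h0]
    · exact Finset.le_sup (f := fun i => (g.coeff i).natDegree) (Polynomial.mem_support_iff.mpr h0)
  obtain ⟨D, hD, hspec⟩ := exists_absIrred_spread K₀ hg he hd hirr
  set d := g.natDegree
  refine ⟨D * r.leadingCoeff, mul_ne_zero hD (Polynomial.leadingCoeff_ne_zero.mpr hr),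
    2 * (1 + d * (e * d)) + d * (r.natDegree + 1) + 1, fun F _ _ φ hφ => ?_⟩
  rw [map_mul] at hφ
  have hrφ : r.map φ ≠ 0 := fun h => right_ne_zero_of_mul hφ (by
    have := congrArg (fun p : F[X] => p.coeff r.natDegree) h
    simp only [Polynomial.coeff_map, Polynomial.coeff_zero] at this
    exact this)
  have hdF : (g.map (Polynomial.mapRingHom φ)).natDegree = d := hg.natDegree_map _
  have hmain := plane_count_two (hg.map (Polynomial.mapRingHom φ)) (hspec F φ (left_ne_zero_of_mul hφ)) (e := e)
    (fun i => by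
      rw [Polynomial.coeff_map, Polynomial.coe_mapRingHom]
      exact Polynomial.natDegree_map_le.trans (he i)) hrφ (fun x0 y0 hx0 hroot h0 => by
      refine hx0 ?_
      have h1 := congrArg (fun p : B[X][X] => evPt x0 y0 (p.map (Polynomial.mapRingHom φ))) hUV
      simp only [Polynomial.map_add, Polynomial.map_mul, Polynomial.map_C, ← Polynomial.derivative_map, map_add,
        map_mul, hroot, h0, mul_zero, add_zero] at h1
      simpa [evPt] using h1.symm)
  rw [hdF] at hmain
  set S := Real.sqrt (Nat.card F : ℝ)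
  have hS : 1 ≤ S := Real.one_le_sqrt.mpr (by exact_mod_cast Nat.card_pos)
  have hrd : ((r.map φ).natDegree : ℝ) ≤ r.natDegree := by exact_mod_cast Polynomial.natDegree_map_le
  have hd0 : (0 : ℝ) ≤ d := Nat.cast_nonneg _
  rw [abs_le] at hmain ⊢
  push_cast at hmain ⊢
  have h3 : (d : ℝ) * (((r.map φ).natDegree : ℝ) + 1) + 1 ≤ ((d : ℝ) * ((r.natDegree : ℝ) + 1) + 1) * S := by
    refine le_trans ?_ (le_mul_of_one_le_right (by positivity) hS)
    gcongr
  constructor <;> linarith [hmain.1, hmain.2]

end Groth.L03.LangWeil
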