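import Groth.Agent.L03.LangWeil.Fibre
import Groth.Agent.L22.AffineDim
import Mathlib.RingTheory.NoetherNormalization
import Mathlib.RingTheory.Localization.Integer

/-!
Upper bounds for the number of points of a family, uniformly over the good part of the base.
-/

set_option autoImplicit false
universe u

open Polynomial

namespace Groth.L03.LangWeil

variable {R : Type u} [CommRing R]

theorem finite_over {F : Type u} [CommRing F] [Finite F] (φ : R →+* F) (A : Type u) [CommRing A] [Algebra R A]
    [Algebra.FiniteType R A] : Finite (Over φ A) := by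
  obtain ⟨G, hG⟩ := (Algebra.FiniteType.out : (⊤ : Subalgebra R A).FG)
  refine Finite.of_injective (fun ψ : Over φ A => fun z : (G : Set A) => ψ.1 z) fun ψ ψ' h => Subtype.ext ?_
  refine RingHom.ext fun z => ?_
  have hz : z ∈ Algebra.adjoin R (G : Set A) := hG ▸ Algebra.mem_top
  induction hz using Algebra.adjoin_induction with
  | mem z hz => exact congrFun h ⟨z, hz⟩
  | algebraMap b => rw [ψ.commutes, ψ'.commutes]
  | add y y' _ _ h h' => rw [map_add, map_add, h, h']
  | mul y y' _ _ h h' => rw [map_mul, map_mul, h, h']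

variable [IsDomain R]

/-- The generic fibre, as an algebra over the fraction field. -/
abbrev genFibre (R : Type u) [CommRing R] (A : Type u) [CommRing A] [Algebra R A] : Type u :=
  Localization (Algebra.algebraMapSubmonoid A (nonZeroDivisors R))

/-- Points are bounded by the dimension of the generic fibre. -/
theorem exists_card_over_le (A : Type u) [CommRing A] [Algebra R A] [Algebra.FiniteType R A] :
    ∃ f : R, f ≠ 0 ∧ ∃ C s : ℕ, ((s : WithBot ℕ∞) ≤ ringKrullDim (genFibre R A) ∨ C = 0) ∧
      ∀ (F : Type u) [Field F] [Finite F] (φ : R →+* F), φ f ≠ 0 → Nat.card (Over φ A) ≤ C * Nat.card F ^ s := by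
  classical
  let K := FractionRing R
  let M := Algebra.algebraMapSubmonoid A (nonZeroDivisors R)
  let π : A →+* genFibre R A := algebraMap A (genFibre R A)
  rcases subsingleton_or_nontrivial (genFibre R A) with hsub | hnt
  · obtain ⟨⟨_, f, hf, rfl⟩, h1⟩ := (IsLocalization.map_eq_zero_iff M (genFibre R A) (1 : A)).mp (Subsingleton.elim _ _)
    refine ⟨f, nonZeroDivisors.ne_zero hf, 0, 0, Or.inr rfl, fun F _ _ φ hφ => ?_⟩
    haveI : IsEmpty (Over φ A) := ⟨fun ψ => hφ (by
      rw [← ψ.commutes f, show algebraMap R A f = 0 by simpa using h1, map_zero])⟩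
    simp
  have hu : ∀ r : nonZeroDivisors R, IsUnit (π (algebraMap R A r)) := fun r =>
    IsLocalization.map_units (genFibre R A) (⟨_, r.1, r.2, rfl⟩ : M)
  let jK : K →+* genFibre R A := IsLocalization.lift (M := nonZeroDivisors R) (g := π.comp (algebraMap R A)) hu
  letI : Algebra K (genFibre R A) := jK.toAlgebra
  have hjK : ∀ r : R, algebraMap K (genFibre R A) (algebraMap R K r) = π (algebraMap R A r) := fun r =>
    IsLocalization.lift_eq _ r
  have hπ : ∀ b : genFibre R A, ∃ (a : A) (r : R), r ≠ 0 ∧ π a = π (algebraMap R A r) * b := fun b => by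
    obtain ⟨⟨a, ⟨_, r, hr, rfl⟩⟩, h⟩ := IsLocalization.surj M b
    exact ⟨a, r, nonZeroDivisors.ne_zero hr, by rw [← h, mul_comm]⟩
  obtain ⟨G0, hG0⟩ := (Algebra.FiniteType.out : (⊤ : Subalgebra R A).FG)
  haveI : Algebra.FiniteType K (genFibre R A) := ⟨⟨G0.image π, by
    refine eq_top_iff.mpr fun b _ => ?_
    obtain ⟨a, r, hr, h⟩ := hπ b
    have hall : ∀ z ∈ Algebra.adjoin R (G0 : Set A),
        π z ∈ Algebra.adjoin K (↑(G0.image π) : Set (genFibre R A)) := fun z hz => by
      induction hz using Algebra.adjoin_induction with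
      | mem z hz => exact Algebra.subset_adjoin (Finset.mem_image_of_mem _ hz)
      | algebraMap b => rw [← hjK]; exact Subalgebra.algebraMap_mem _ _
      | add y y' _ _ hy hy' => rw [map_add]; exact add_mem hy hy'
      | mul y y' _ _ hy hy' => rw [map_mul]; exact mul_mem hy hy'
    have ha := hall a (hG0 ▸ Algebra.mem_top)
    have hb : b = algebraMap K (genFibre R A) (algebraMap R K r)⁻¹ * π a := by
      rw [h, ← hjK, ← mul_assoc, ← map_mul, inv_mul_cancel₀, map_one, one_mul]
      exact (map_ne_zero_iff _ (IsFractionRing.injective R K)).mpr hr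
    rw [hb]
    exact mul_mem (Subalgebra.algebraMap_mem _ _) ha⟩⟩
  obtain ⟨s, g, hinj, hfin⟩ := exists_finite_inj_algHom_of_fg K (genFibre R A)
  have hdim : (s : WithBot ℕ∞) ≤ ringKrullDim (genFibre R A) := by
    letI := g.toRingHom.toAlgebra
    haveI : Module.Finite (MvPolynomial (Fin s) K) (genFibre R A) := hfin
    rw [Groth.L22.AffineDim.ringKrullDim_eq_of_isIntegral (R := MvPolynomial (Fin s) K) (S := genFibre R A) hinj,
      MvPolynomial.ringKrullDim_of_isNoetherianRing]
    simp
  choose y ry hry hy using fun i : Fin s => hπ (g (MvPolynomial.X i))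
  -- integrality over the subring generated by the `π (y i)`
  let g' : MvPolynomial (Fin s) K →ₐ[K] genFibre R A := MvPolynomial.aeval fun i => π (y i)
  have hint : ∀ b : genFibre R A, g'.toRingHom.IsIntegralElem b := fun b => by
    obtain ⟨P, hP, hPb⟩ := RingHom.Finite.to_isIntegral hfin b
    let σ : MvPolynomial (Fin s) K →ₐ[K] MvPolynomial (Fin s) K :=
      MvPolynomial.aeval fun i => MvPolynomial.C (algebraMap R K (ry i))⁻¹ * MvPolynomial.X i
    refine ⟨P.map σ.toRingHom, hP.map _, ?_⟩
    rw [Polynomial.eval₂_map]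
    have : g'.comp σ = g := MvPolynomial.algHom_ext fun i => by
      simp only [AlgHom.comp_apply, σ, g', MvPolynomial.aeval_X, map_mul, MvPolynomial.aeval_C, hy]
      rw [← hjK, ← mul_assoc, ← map_mul,
        inv_mul_cancel₀ ((map_ne_zero_iff _ (IsFractionRing.injective R K)).mpr (hry i)), map_one, one_mul]
    change Polynomial.eval₂ (g'.comp σ).toRingHom b P = 0
    rw [this]; exact hPb
  let ι : MvPolynomial (Fin s) R →+* MvPolynomial (Fin s) K := MvPolynomial.map (algebraMap R K)
  let aev : MvPolynomial (Fin s) R →+* A := (MvPolynomial.aeval y).toRingHom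
  have hιinj : Function.Injective ι := MvPolynomial.map_injective _ (IsFractionRing.injective R K)
  have hclear : ∀ P : MvPolynomial (Fin s) K, ∃ (Q : MvPolynomial (Fin s) R) (N : R), N ≠ 0 ∧
      ι Q = ι (MvPolynomial.C N) * P := fun P => by
    induction P using MvPolynomial.induction_on with
    | C c =>
      obtain ⟨⟨a, N⟩, h⟩ := IsLocalization.surj (nonZeroDivisors R) c
      exact ⟨MvPolynomial.C a, N.1, nonZeroDivisors.ne_zero N.2, by
        simp only [ι, MvPolynomial.map_C, ← map_mul]; rw [mul_comm, ← h]⟩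
    | add P P' h h' =>
      obtain ⟨Q, N, hN, hQ⟩ := h
      obtain ⟨Q', N', hN', hQ'⟩ := h'
      refine ⟨MvPolynomial.C N' * Q + MvPolynomial.C N * Q', N * N', mul_ne_zero hN hN', ?_⟩
      simp only [map_add, map_mul, hQ, hQ']
      ring
    | mul_X P i h =>
      obtain ⟨Q, N, hN, hQ⟩ := h
      exact ⟨Q * MvPolynomial.X i, N, hN, by rw [map_mul, hQ]; simp [ι, mul_assoc]⟩
  have hrel : ∀ z : A, ∃ (G : Polynomial (MvPolynomial (Fin s) R)) (N : R), N ≠ 0 ∧
      Polynomial.eval₂ aev z G = 0 ∧ G.coeff G.natDegree = MvPolynomial.C N := fun z => by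
    obtain ⟨P, hP, hPb⟩ := hint (π z)
    choose Q M' hM' hQ using fun i => hclear (P.coeff i)
    let d := P.natDegree
    let N : R := ∏ i ∈ Finset.range d, M' i
    have hN : N ≠ 0 := Finset.prod_ne_zero_iff.mpr fun i _ => hM' i
    have hP' : Polynomial.C (ι (MvPolynomial.C N)) * P ∈ Polynomial.lifts ι := by
      refine (Polynomial.lifts_iff_coeff_lifts _).mpr fun i => ?_
      rw [Polynomial.coeff_C_mul]
      rcases lt_trichotomy i d with hi | hi | hi
      · refine ⟨MvPolynomial.C (∏ l ∈ (Finset.range d).erase i, M' l) * Q i, ?_⟩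
        rw [map_mul, hQ, ← mul_assoc, ← map_mul, ← map_mul,
          Finset.prod_erase_mul _ _ (Finset.mem_range.mpr hi)]
      · exact ⟨MvPolynomial.C N, by rw [hi, hP.coeff_natDegree, mul_one]⟩
      · exact ⟨0, by rw [map_zero, Polynomial.coeff_eq_zero_of_natDegree_lt hi, mul_zero]⟩
    obtain ⟨G, hG⟩ := (Polynomial.mem_lifts _).mp hP'
    have hN' : ι (MvPolynomial.C N) ≠ 0 := (map_ne_zero_iff _ hιinj).mpr (by simpa using hN)
    have hGd : G.natDegree = d := by
      rw [← Polynomial.natDegree_map_eq_of_injective hιinj G, hG, Polynomial.natDegree_C_mul hN']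
    have hGd' : G.coeff G.natDegree = MvPolynomial.C N := hιinj (by
      rw [hGd, ← Polynomial.coeff_map, hG, Polynomial.coeff_C_mul, hP.coeff_natDegree, mul_one])
    have h0 : π (Polynomial.eval₂ aev z G) = 0 := by
      rw [Polynomial.hom_eval₂, show π.comp aev = g'.toRingHom.comp ι from
        MvPolynomial.ringHom_ext (fun r => by simp [ι, g', aev, hjK]) fun i => by simp [ι, g', aev],
        ← Polynomial.eval₂_map, hG, Polynomial.eval₂_mul, hPb, mul_zero]
    obtain ⟨⟨_, f, hf, rfl⟩, hf0⟩ := (IsLocalization.map_eq_zero_iff M (genFibre R A) _).mp h0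
    refine ⟨Polynomial.C (MvPolynomial.C f) * G, f * N, mul_ne_zero (nonZeroDivisors.ne_zero hf) hN, ?_, ?_⟩
    · rw [Polynomial.eval₂_mul, Polynomial.eval₂_C]
      simpa [aev] using hf0
    · rw [Polynomial.natDegree_C_mul (by simpa using nonZeroDivisors.ne_zero hf), Polynomial.coeff_C_mul, hGd',
        ← map_mul]
  choose G N hN hG hlc using hrel
  refine ⟨∏ z ∈ G0, N z, Finset.prod_ne_zero_iff.mpr fun z _ => hN z, ∏ z ∈ G0, (G z).natDegree, s, Or.inl hdim,
    fun F _ _ φ hφ => ?_⟩
  haveI := Fintype.ofFinite F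
  rw [map_prod, Finset.prod_ne_zero_iff] at hφ
  let Pz : (Fin s → F) → A → Finset F := fun v z => ((G z).map (MvPolynomial.eval₂Hom φ v)).roots.toFinset
  have hmem : ∀ (ψ : Over φ A) (z : G0), ψ.1 z ∈ Pz (fun i => ψ.1 (y i)) z := fun ψ z => by
    have hne : (G z).map (MvPolynomial.eval₂Hom φ fun i => ψ.1 (y i)) ≠ 0 := fun h => by
      have := congrArg (fun P : Polynomial F => P.coeff (G z).natDegree) h
      simp only [Polynomial.coeff_map, Polynomial.coeff_zero, hlc] at this
      exact hφ z z.2 (by simpa using this)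
    simp only [Pz, Multiset.mem_toFinset, Polynomial.mem_roots hne, Polynomial.IsRoot.def, Polynomial.eval_map]
    have h0 : ψ.1 (Polynomial.eval₂ aev (z : A) (G z)) = 0 := by rw [hG, map_zero]
    rw [Polynomial.hom_eval₂] at h0
    rw [show (MvPolynomial.eval₂Hom φ fun i => ψ.1 (y i)) = ψ.1.comp aev from
      MvPolynomial.ringHom_ext (fun r => by simp [aev, ψ.commutes]) fun i => by simp [aev]]
    exact h0
  let e : Over φ A → Σ v : Fin s → F, ∀ z : G0, Pz v z := fun ψ =>
    ⟨fun i => ψ.1 (y i), fun z => ⟨ψ.1 z, hmem ψ z⟩⟩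
  have he : Function.Injective e := fun ψ ψ' h => by
    have hj : ∀ z : G0, ψ.1 z = ψ'.1 z := fun z => congrArg (fun w => ((w.2 z : F))) h
    refine Subtype.ext (RingHom.ext fun z => ?_)
    have hz : z ∈ Algebra.adjoin R (G0 : Set A) := hG0 ▸ Algebra.mem_top
    induction hz using Algebra.adjoin_induction with
    | mem z hz => exact hj ⟨z, hz⟩
    | algebraMap b => rw [ψ.commutes, ψ'.commutes]
    | add y y' _ _ h h' => rw [map_add, map_add, h, h']
    | mul y y' _ _ h h' => rw [map_mul, map_mul, h, h']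
  refine (Nat.card_le_card_of_injective e he).trans ?_
  rw [Nat.card_sigma]
  refine (Finset.sum_le_sum fun v _ => (?_ : _ ≤ ∏ z ∈ G0, (G z).natDegree)).trans ?_
  · rw [Nat.card_pi, ← Finset.prod_coe_sort G0 fun z => (G z).natDegree]
    refine Finset.prod_le_prod' fun z _ => ?_
    rw [Nat.card_eq_finsetCard]
    exact (Multiset.toFinset_card_le _).trans ((Polynomial.card_roots' _).trans Polynomial.natDegree_map_le)
  · rw [Finset.sum_const, Finset.card_univ, Fintype.card_fun, Fintype.card_fin, smul_eq_mul, mul_comm,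
      Nat.card_eq_fintype_card]

/-- A bound by a given exponent. -/
theorem exists_card_over_le_of_dim_le (A : Type u) [CommRing A] [Algebra R A] [Algebra.FiniteType R A] {r : ℕ}
    (hdim : ringKrullDim (genFibre R A) ≤ r) :
    ∃ f : R, f ≠ 0 ∧ ∃ C : ℕ, ∀ (F : Type u) [Field F] [Finite F] (φ : R →+* F), φ f ≠ 0 →
      Nat.card (Over φ A) ≤ C * Nat.card F ^ r := by
  obtain ⟨f, hf, C, s, hs, hb⟩ := exists_card_over_le (R := R) A
  refine ⟨f, hf, C, fun F _ _ φ hφ => (hb F φ hφ).trans ?_⟩
  rcases hs with hs | rfl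
  · refine Nat.mul_le_mul_left _ (Nat.pow_le_pow_right Nat.card_pos ?_)
    exact_mod_cast hs.trans hdim
  · simp

/-- A bound by one less than a given exponent. -/
theorem exists_card_over_mul_le (A : Type u) [CommRing A] [Algebra R A] [Algebra.FiniteType R A] {r : ℕ}
    (hdim : ringKrullDim (genFibre R A) < r) :
    ∃ f : R, f ≠ 0 ∧ ∃ C : ℕ, ∀ (F : Type u) [Field F] [Finite F] (φ : R →+* F), φ f ≠ 0 →
      Nat.card (Over φ A) * Nat.card F ≤ C * Nat.card F ^ r := by
  obtain ⟨f, hf, C, s, hs, hb⟩ := exists_card_over_le (R := R) A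
  refine ⟨f, hf, C, fun F _ _ φ hφ => (Nat.mul_le_mul_right _ (hb F φ hφ)).trans ?_⟩
  rcases hs with hs | rfl
  · rw [mul_assoc, ← pow_succ]
    refine Nat.mul_le_mul_left _ (Nat.pow_le_pow_right Nat.card_pos ?_)
    have := hs.trans_lt hdim
    exact_mod_cast this
  · simp

end Groth.L03.LangWeil
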